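import Groth.Agent.BMLib.Colim

/-!
# Open-closed pieces of an object, and groups of a pre-theory
-/

set_option autoImplicit false
set_option backward.isDefEq.respectTransparency false
set_option linter.unusedSectionVars false

universe u

open CategoryTheory AlgebraicGeometry Opposite

namespace Groth.Agent.BMLib

variable {V : ObjectProperty Scheme.{u}} [BMCoh.IsConstructible V] {R : Type u} [CommRing R]
  {A : BMCoh.Coefs R} (T : BMCoh.PreTheory V R A) (M : A.Cat) (i n : ℤ)

theorem pull_pull {X Y Z : BMCoh.Obj V} (f : X ⟶ Y) (g : Y ⟶ Z) (a : T.gp Z M i n) :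
    (T.pull f M i n).hom ((T.pull g M i n).hom a) = (T.pull (f ≫ g) M i n).hom a := by
  have e : T.pull (f ≫ g) M i n = T.pull g M i n ≫ T.pull f M i n := by
    simp [BMCoh.PreTheory.pull]
  rw [e]
  rfl

theorem pull_id {X : BMCoh.Obj V} (a : T.gp X M i n) : (T.pull (𝟙 X) M i n).hom a = a := by
  have e : T.pull (𝟙 X) M i n = 𝟙 _ := by
    simp [BMCoh.PreTheory.pull]
  rw [e]
  rfl

/-- Two morphisms of objects with the same underlying morphism restrict in the same way. -/
theorem pull_congr {X Y : BMCoh.Obj V} (f g : X ⟶ Y) (h : f.hom = g.hom) (a : T.gp Y M i n) :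
    (T.pull f M i n).hom a = (T.pull g M i n).hom a := by
  obtain rfl : f = g := BMCoh.Hom.ext h
  rfl

omit [BMCoh.IsConstructible V] in
theorem relCodim_eq_zero {X Y : BMCoh.Obj V} (g : X ⟶ Y) :
    BMCoh.relCodim X.scheme Y.scheme = 0 := by
  rw [BMCoh.relCodim, g.dim_eq, sub_self]

/-- Push-forward along a closed morphism of objects. -/
noncomputable abbrev pushH {X Y : BMCoh.Obj V} (g : X ⟶ Y) [IsProper g.hom] :
    T.gp X M i n ⟶ T.gp Y M i n :=
  T.push g.hom M i n i n (by rw [relCodim_eq_zero g]; ring) (by rw [relCodim_eq_zero g]; ring)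

theorem pull_pushH {X Y : BMCoh.Obj V} (g : X ⟶ Y) [IsProper g.hom] (a : T.gp X M i n) :
    (T.pull g M i n).hom ((pushH T M i n g).hom a) = a := by
  have h0 : BMCoh.relCodim X.scheme X.scheme = 0 := sub_self _
  have h1 := relCodim_eq_zero g
  have e := T.push_pull g.hom (𝟙 X.scheme) g (𝟙 X) (IsKernelPair.id_of_mono g.hom) M i n i n
    (by omega) (by omega) (by omega) (by omega)
  rw [T.push_id] at e
  have e2 := congr($(e).hom a)
  exact e2.trans (pull_id T M i n a)

/-- If a class vanishes on the complement of an open-closed piece it is pushed from that piece. -/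
theorem eq_pushH_pull {X Y Z : BMCoh.Obj V} (g : X ⟶ Z) [IsClosedImmersion g.hom] (g' : Y ⟶ Z)
    (h : Set.range g'.hom = (Set.range g.hom)ᶜ) (b : T.gp Z M i n)
    (hb : (T.pull g' M i n).hom b = 0) :
    (pushH T M i n g).hom ((T.pull g M i n).hom b) = b := by
  let D : BMCoh.Decomp Z := ⟨X, Y, g.hom, inferInstance, g', h⟩
  have h1 : BMCoh.relCodim D.Z.scheme Z.scheme = 0 := relCodim_eq_zero g
  obtain ⟨k, rfl⟩ : ∃ k, i = k + 1 := ⟨i - 1, by omega⟩
  obtain ⟨c, hc⟩ := (T.exact_push_pull D M k n (k + 1) n (by omega) (by omega) b).1 hb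
  have hc' : (pushH T M (k + 1) n g).hom c = b := hc
  rw [← hc', pull_pushH]

theorem pull_pushH_eq_zero {X Y Z : BMCoh.Obj V} (g : X ⟶ Z) [IsClosedImmersion g.hom] (g' : Y ⟶ Z)
    (h : Set.range g'.hom = (Set.range g.hom)ᶜ) (c : T.gp X M i n) :
    (T.pull g' M i n).hom ((pushH T M i n g).hom c) = 0 := by
  let D : BMCoh.Decomp Z := ⟨X, Y, g.hom, inferInstance, g', h⟩
  have h1 : BMCoh.relCodim D.Z.scheme Z.scheme = 0 := relCodim_eq_zero g
  obtain ⟨k, rfl⟩ : ∃ k, i = k + 1 := ⟨i - 1, by omega⟩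
  exact (T.exact_push_pull D M k n (k + 1) n (by omega) (by omega)).apply_apply_eq_zero c

/-- The open complement of an open-closed piece, as a morphism of objects, when another piece avoids
the first one. -/
theorem exists_compl {X Y Z : BMCoh.Obj V} (g : X ⟶ Z) [IsClosedImmersion g.hom] (g' : Y ⟶ Z)
    (h : Disjoint (Set.range g.hom) (Set.range g'.hom)) :
    ∃ (C : BMCoh.Obj V) (c : C ⟶ Z) (l : Y ⟶ C),
      Set.range c.hom = (Set.range g.hom)ᶜ ∧ l ≫ c = g' := by
  let O : Z.scheme.Opens := ⟨(Set.range g.hom)ᶜ, g.hom.isClosedEmbedding.isClosed_range.isOpen_compl⟩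
  have hle : Set.range g'.hom ⊆ Set.range O.ι := by
    rw [Scheme.Opens.range_ι]
    exact h.subset_compl_left
  have hl : IsOpenImmersion (IsOpenImmersion.lift O.ι g'.hom hle) := by
    have : IsOpenImmersion (IsOpenImmersion.lift O.ι g'.hom hle ≫ O.ι) := by
      rw [IsOpenImmersion.lift_fac]; infer_instance
    exact IsOpenImmersion.of_comp _ O.ι
  have h1 : WeilCoh.dim (O : Scheme.{u}) ≤ WeilCoh.dim Z.scheme :=
    dim_le_of_isEmbedding Z O.ι O.ι.isEmbedding
  have h2 : WeilCoh.dim Y.scheme ≤ WeilCoh.dim (O : Scheme.{u}) :=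
    dim_le_of_isEmbedding (Z.res O) _ (IsOpenImmersion.lift O.ι g'.hom hle).isEmbedding
  rw [g'.dim_eq] at h2
  refine ⟨Z.res O, Z.resι O (le_antisymm h1 h2),
    ⟨IsOpenImmersion.lift O.ι g'.hom hle, hl, g'.dim_eq.trans (le_antisymm h2 h1)⟩,
    Scheme.Opens.range_ι O, BMCoh.Hom.ext (IsOpenImmersion.lift_fac _ _ _)⟩

/-- Pushing from one piece and restricting to a disjoint one gives zero. -/
theorem pull_pushH_disjoint {X Y Z : BMCoh.Obj V} (g : X ⟶ Z) [IsClosedImmersion g.hom] (g' : Y ⟶ Z)
    (h : Disjoint (Set.range g.hom) (Set.range g'.hom)) (c : T.gp X M i n) :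
    (T.pull g' M i n).hom ((pushH T M i n g).hom c) = 0 := by
  obtain ⟨C, k, l, hk, rfl⟩ := exists_compl g g' h
  rw [← pull_pull, pull_pushH_eq_zero T M i n g k hk, map_zero]

/-- A surjective open immersion of objects restricts injectively. -/
theorem pull_injective_of_surjective {X Z : BMCoh.Obj V} (g : X ⟶ Z)
    (h : Function.Surjective g.hom) : Function.Injective (T.pull g M i n).hom := by
  have hs : Surjective g.hom := ⟨h⟩
  have hi : IsIso g.hom := by
    have : Epi g.hom.base := (TopCat.epi_iff_surjective _).2 h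
    exact IsOpenImmersion.isIso g.hom
  let k : Z ⟶ X := ⟨inv g.hom, inferInstance, g.dim_eq.symm⟩
  refine Function.LeftInverse.injective (g := (T.pull k M i n).hom) fun a => ?_
  rw [pull_pull, show k ≫ g = 𝟙 Z from BMCoh.Hom.ext (IsIso.inv_hom_id g.hom), pull_id]

/-- A class vanishing on every piece of a finite cover by open-closed pieces is zero. -/
theorem eq_zero_of_pieces {ι : Type u} (s : Finset ι) :
    ∀ {Z : BMCoh.Obj V}, s.Nonempty → ∀ (W : ι → BMCoh.Obj V) (g : ∀ a, W a ⟶ Z),
      (∀ a, IsClosedImmersion (g a).hom) →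
      (∀ a ∈ s, ∀ b ∈ s, a ≠ b → Disjoint (Set.range (g a).hom) (Set.range (g b).hom)) →
      (∀ z : Z.scheme, ∃ a ∈ s, z ∈ Set.range (g a).hom) →
      ∀ b : T.gp Z M i n, (∀ a ∈ s, (T.pull (g a) M i n).hom b = 0) → b = 0 := by
  classical
  induction s using Finset.strongInduction with
  | H s ih =>
    intro Z hne W g hg hd hc b hb
    obtain ⟨a, ha⟩ := hne
    have := hg a
    by_cases hs : (s.erase a).Nonempty
    · obtain ⟨a', ha'⟩ := id hs
      obtain ⟨h1, h2⟩ := Finset.mem_erase.1 ha'
      obtain ⟨C, c, -, hcr, -⟩ := exists_compl (g a) (g a') (hd a ha a' h2 (Ne.symm h1))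
      suffices h : (T.pull c M i n).hom b = 0 by
        rw [← eq_pushH_pull T M i n (g a) c hcr b h, hb a ha, map_zero]
      have hsub : ∀ d ∈ s.erase a, Set.range (g d).hom ⊆ Set.range c.hom := fun d hd' => by
        obtain ⟨hne, hds⟩ := Finset.mem_erase.1 hd'
        rw [hcr]
        exact (hd a ha d hds (Ne.symm hne)).subset_compl_left
      let W' : {d // d ∈ s.erase a} → BMCoh.Obj V := fun d => W d.1
      let g' : ∀ d : {d // d ∈ s.erase a}, W' d ⟶ C := fun d =>
        ⟨IsOpenImmersion.lift c.hom (g d.1).hom (hsub d.1 d.2), by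
          have : IsOpenImmersion (IsOpenImmersion.lift c.hom (g d.1).hom (hsub d.1 d.2) ≫ c.hom) := by
            rw [IsOpenImmersion.lift_fac]; infer_instance
          exact IsOpenImmersion.of_comp _ c.hom,
          (g d.1).dim_eq.trans c.dim_eq.symm⟩
      have hfac : ∀ d : {d // d ∈ s.erase a}, g' d ≫ c = g d.1 := fun d =>
        BMCoh.Hom.ext (IsOpenImmersion.lift_fac _ _ _)
      have hpt : ∀ d (w : (W' d).scheme), c.hom ((g' d).hom w) = (g d.1).hom w := fun d w => by
        show ((g' d ≫ c).hom) w = _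
        rw [hfac]
      -- the induction hypothesis for a family indexed by all of the index type
      let pick : ι → {d // d ∈ s.erase a} := fun d =>
        if h : d ∈ s.erase a then ⟨d, h⟩ else ⟨a', ha'⟩
      have hpick : ∀ d ∈ s.erase a, (pick d).1 = d := fun d hd' => congrArg Subtype.val (dif_pos hd')
      refine ih _ (Finset.erase_ssubset ha) hs (fun d => W' (pick d)) (fun d => g' (pick d))
        (fun d => ?_) (fun d hd1 e he hne => ?_) (fun z => ?_) _ (fun d hd' => ?_)
      · have := hg (pick d).1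
        have : IsClosedImmersion ((g' (pick d)).hom ≫ c.hom) := by
          show IsClosedImmersion ((g' (pick d) ≫ c).hom)
          rw [hfac]; infer_instance
        exact IsClosedImmersion.of_comp (g' (pick d)).hom c.hom
      · refine Set.disjoint_left.2 ?_
        rintro z ⟨w, rfl⟩ ⟨w', hw'⟩
        have h1 : (g (pick e).1).hom w' = (g (pick d).1).hom w := by rw [← hpt, ← hpt, hw']
        refine Set.disjoint_left.1 (hd _ (Finset.mem_of_mem_erase (pick d).2) _
          (Finset.mem_of_mem_erase (pick e).2) ?_) ⟨w, rfl⟩ ⟨w', h1⟩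
        rw [hpick d hd1, hpick e he]; exact hne
      · obtain ⟨d, hds, w, hw⟩ := hc (c.hom z)
        have hd' : d ∈ s.erase a := by
          refine Finset.mem_erase.2 ⟨?_, hds⟩
          rintro rfl
          exact (show c.hom z ∈ (Set.range (g d).hom)ᶜ from hcr ▸ ⟨z, rfl⟩) ⟨w, hw⟩
        refine ⟨d, hd', ?_⟩
        have h1 := hpick d hd'
        obtain ⟨p, hp⟩ : ∃ p, pick d = p := ⟨_, rfl⟩
        rw [hp] at h1
        subst h1
        show z ∈ Set.range (g' (pick p.1)).hom
        rw [hp]
        exact ⟨w, c.hom.injective ((hpt p w).trans hw)⟩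
      · rw [pull_pull, hfac]
        exact hb _ (Finset.mem_of_mem_erase (pick d).2)
    · refine pull_injective_of_surjective T M i n (g a) (fun z => ?_) (by rw [hb a ha, map_zero])
      obtain ⟨d, hds, hz⟩ := hc z
      obtain rfl : d = a := by_contra fun hne => hs ⟨d, Finset.mem_erase.2 ⟨hne, hds⟩⟩
      exact hz

variable {ι : Type u} [Fintype ι]

/-- A class is the sum of the push-forwards of its restrictions to the pieces. -/
theorem sum_pushH_pull [Nonempty ι] {Z : BMCoh.Obj V} (W : ι → BMCoh.Obj V) (g : ∀ a, W a ⟶ Z)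
    [∀ a, IsClosedImmersion (g a).hom]
    (hd : ∀ a b, a ≠ b → Disjoint (Set.range (g a).hom) (Set.range (g b).hom))
    (hc : ∀ z : Z.scheme, ∃ a, z ∈ Set.range (g a).hom) (b : T.gp Z M i n) :
    ∑ a, (pushH T M i n (g a)).hom ((T.pull (g a) M i n).hom b) = b := by
  classical
  refine (sub_eq_zero.1 (eq_zero_of_pieces T M i n Finset.univ Finset.univ_nonempty W g
    (fun _ => inferInstance) (fun a _ c _ => hd a c)
    (fun z => ⟨_, Finset.mem_univ _, (hc z).choose_spec⟩) (b - _) fun a _ => ?_)).symm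
  rw [map_sub, map_sum, Finset.sum_eq_single_of_mem a (Finset.mem_univ a)
    (fun c _ hca => pull_pushH_disjoint T M i n (g c) (g a) (hd c a hca) _), pull_pushH, sub_self]

/-- Any family of classes on the pieces comes from a class. -/
theorem exists_pull_eq {Z : BMCoh.Obj V} (W : ι → BMCoh.Obj V) (g : ∀ a, W a ⟶ Z)
    [∀ a, IsClosedImmersion (g a).hom]
    (hd : ∀ a b, a ≠ b → Disjoint (Set.range (g a).hom) (Set.range (g b).hom))
    (f : ∀ a, T.gp (W a) M i n) : ∃ b : T.gp Z M i n, ∀ a, (T.pull (g a) M i n).hom b = f a := by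
  classical
  refine ⟨∑ c, (pushH T M i n (g c)).hom (f c), fun a => ?_⟩
  rw [map_sum, Finset.sum_eq_single_of_mem a (Finset.mem_univ a)
    (fun c _ hca => pull_pushH_disjoint T M i n (g c) (g a) (hd c a hca) _), pull_pushH]

end Groth.Agent.BMLib
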