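import Groth.Agent.BMLib.Total

/-!
# Restriction across a closed subset whose own groups vanish
-/

set_option autoImplicit false
set_option backward.isDefEq.respectTransparency false
set_option linter.unusedSectionVars false

universe u

open CategoryTheory AlgebraicGeometry TopologicalSpace

namespace Groth.Agent.BMLib

variable {V : ObjectProperty Scheme.{u}} [BMCoh.IsConstructible V] {R : Type u} [CommRing R]
  {A : BMCoh.Coefs R} {T : BMCoh.PreTheory V R A} {X : BMCoh.Obj V} {j m : ℕ} {M : A.Cat} {i n : ℤ}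

/-- Dimensions of closures do not change on passing to a closed subscheme. -/
theorem pdim_closed {Z : Scheme.{u}} {Y : Scheme.{u}} (f : Z ⟶ Y) [IsClosedImmersion f] (w : Z) :
    WeilCoh.pdim Z w = WeilCoh.pdim Y (f w) := by
  have e0 : f '' closure ({w} : Set Z) = closure ({f w} : Set Y) := by
    rw [← f.isClosedEmbedding.closure_image_eq, Set.image_singleton]
  let e : ↥(closure ({w} : Set Z)) ≃ₜ ↥(closure ({f w} : Set Y)) :=
    (f.isEmbedding.homeomorphImage _).trans (Homeomorph.setCongr e0)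
  show ((topologicalKrullDim _).unbotD 0).toNat = ((topologicalKrullDim _).unbotD 0).toNat
  rw [IsHomeomorph.topologicalKrullDim_eq _ e.isHomeomorph]

/-- Below the dimension there are points of every codimension. -/
theorem exists_codim_eq (X : BMCoh.Obj V) {c : ℕ} (hc : c ≤ WeilCoh.dim X.scheme)
    (h0 : 0 < WeilCoh.dim X.scheme) :
    ∃ x : X.scheme, WeilCoh.codim X.scheme x = c := by
  letI := specializationOrder X.scheme
  obtain ⟨x, hx⟩ : ∃ x : X.scheme, WeilCoh.pdim X.scheme x = WeilCoh.dim X.scheme := by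
    by_contra! hne
    have : WeilCoh.dim X.scheme ≤ WeilCoh.dim X.scheme - 1 :=
      dim_le_of_forall X id Topology.IsEmbedding.id fun y => by
        have h1 := pdim_le_dim X y
        have h2 := hne y
        simp only [id]
        omega
    omega
  rcases Nat.eq_zero_or_pos c with rfl | hpos
  · exact ⟨x, by show _ - _ = 0; omega⟩
  · have hlt : ((WeilCoh.dim X.scheme - c : ℕ) : ℕ∞) < Order.height x := by
      rw [← coe_pdim, hx]
      exact_mod_cast (by omega : WeilCoh.dim X.scheme - c < WeilCoh.dim X.scheme)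
    obtain ⟨y, -, hy⟩ :=
      (Order.coe_lt_height_iff (lt_top_iff_ne_top.2 (height_ne_top X x))).1 hlt
    rw [← coe_pdim] at hy
    have hy' : WeilCoh.pdim X.scheme y = WeilCoh.dim X.scheme - c := by exact_mod_cast hy
    exact ⟨y, by show _ - _ = c; omega⟩

/-- A closed reduced object of codimension exactly j + 1 containing a given small closed set. -/
theorem exists_closed (C : Set X.scheme) (hC : IsClosed C)
    (hk : ∀ y ∈ C, j + 1 ≤ WeilCoh.codim X.scheme y) (hdim : j + 1 ≤ WeilCoh.dim X.scheme) :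
    ∃ (Z : BMCoh.Obj V) (ι : Z.scheme ⟶ X.scheme) (_ : IsClosedImmersion ι) (_ : IsReduced Z.scheme),
      C ⊆ Set.range ι ∧ (∀ y ∈ Set.range ι, j + 1 ≤ WeilCoh.codim X.scheme y) ∧
      WeilCoh.dim Z.scheme + (j + 1) = WeilCoh.dim X.scheme := by
  obtain ⟨x, hx⟩ := exists_codim_eq X hdim (by omega)
  let C' : Closeds X.scheme := ⟨C ∪ closure {x}, hC.union isClosed_closure⟩
  let ι := (Scheme.IdealSheafData.vanishingIdeal C').subschemeι
  let Z : BMCoh.Obj V := ⟨_, BMCoh.IsConstructible.of_isClosedImmersion ι (h := inferInstance) X.mem⟩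
  have hr : Set.range ι = C ∪ closure {x} := by
    rw [Scheme.IdealSheafData.range_subschemeι]
    exact Scheme.IdealSheafData.coe_support_vanishingIdeal _
  have hcd : ∀ y ∈ Set.range ι, j + 1 ≤ WeilCoh.codim X.scheme y := by
    intro y hy
    rw [hr] at hy
    rcases hy with hy | hy
    · exact hk y hy
    · exact hx ▸ codim_mono X (specializes_iff_mem_closure.2 hy)
  refine ⟨Z, ι, inferInstance, Props12.isReduced_subscheme_vanishingIdeal _,
    hr ▸ Set.subset_union_left, hcd, ?_⟩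
  obtain ⟨z, hz⟩ : x ∈ Set.range ι := hr ▸ Or.inr (subset_closure rfl)
  have h1 : WeilCoh.dim Z.scheme = WeilCoh.pdim X.scheme x := by
    refine le_antisymm (dim_le_of_forall X ι ι.isEmbedding fun w => ?_) ?_
    · have h2 := hcd _ ⟨w, rfl⟩
      have h3 := pdim_add_codim X (ι w)
      have h4 := pdim_add_codim X x
      omega
    · rw [← hz, ← pdim_closed ι z]
      exact pdim_le_dim Z z
  have h5 := pdim_add_codim X x
  omega

variable {Z : BMCoh.Obj V} (ι : Z.scheme ⟶ X.scheme) [IsClosedImmersion ι]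
  (hZ : WeilCoh.dim Z.scheme + (j + 1) = WeilCoh.dim X.scheme)

include hZ in
theorem containsFj_preimage {Y : X.scheme.Opens} (hY : BMCoh.ContainsFj X (j + 1 + m) Y) :
    BMCoh.ContainsFj Z m (ι ⁻¹ᵁ Y) := fun z hz => by
  refine hY (ι z) ?_
  have h1 := pdim_closed ι z
  have h2 := pdim_add_codim Z z
  have h3 := pdim_add_codim X (ι z)
  omega

/-- The complement of the closed object. -/
def complRange : X.scheme.Opens := ⟨(Set.range ι)ᶜ, ι.isClosedEmbedding.isClosed_range.isOpen_compl⟩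

/-- The decomposition of an open by the closed object. -/
noncomputable def decompOf {Y : X.scheme.Opens}
    (hd : WeilCoh.dim ((complRange ι ⊓ Y : X.scheme.Opens) : Scheme.{u}) =
      WeilCoh.dim (Y : Scheme.{u})) : BMCoh.Decomp (X.res Y) where
  Z := Z.res (ι ⁻¹ᵁ Y)
  U := X.res (complRange ι ⊓ Y)
  i := ι ∣_ Y
  closedImm := inferInstance
  j := X.resLE inf_le_right hd
  range_eq := by
    have e1 : ∀ w, Y.ι ((X.resLE (U := complRange ι ⊓ Y) inf_le_right hd).hom w) =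
        (complRange ι ⊓ Y).ι w := fun w =>
      congr($(X.scheme.homOfLE_ι (inf_le_right : complRange ι ⊓ Y ≤ Y)) w)
    have e2 : ∀ z, Y.ι ((ι ∣_ Y) z) = ι z.1 := fun z => congr($(morphismRestrict_ι ι Y) z)
    ext y
    constructor
    · rintro ⟨w, rfl⟩ ⟨z, hz⟩
      exact w.2.1 ⟨z.1, (e2 z).symm.trans ((congrArg _ hz).trans (e1 w))⟩
    · intro hy
      have hyU : y.1 ∈ complRange ι := fun ⟨z, hz⟩ =>
        hy ⟨⟨z, show ι z ∈ Y by rw [hz]; exact y.2⟩, Y.ι.isEmbedding.injective ((e2 _).trans hz)⟩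
      exact ⟨⟨y.1, hyU, y.2⟩, Y.ι.isEmbedding.injective (e1 _)⟩

include hZ in
theorem relCodim_preimage {Y : X.scheme.Opens} (hY : BMCoh.ContainsFj X (j + 1 + m) Y) :
    BMCoh.relCodim (Z.res (ι ⁻¹ᵁ Y)).scheme (X.res Y).scheme = ((j + 1 : ℕ) : ℤ) := by
  have h1 := dim_eq_of_containsFj Z (containsFj_preimage ι hZ hY)
  have h2 := dim_eq_of_containsFj X hY
  show (WeilCoh.dim (Y : Scheme.{u}) : ℤ) - WeilCoh.dim ((ι ⁻¹ᵁ Y : Z.scheme.Opens) : Scheme.{u}) = _
  omega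

include hZ in
theorem exists_shrink {i n : ℤ} (h0 : Limits.IsZero (T.fjGp Z m M i n)) {Y : X.scheme.Opens}
    (hY : BMCoh.ContainsFj X (j + 1 + m) Y) (b : T.gp (Z.res (ι ⁻¹ᵁ Y)) M i n) :
    ∃ (Y' : X.scheme.Opens) (hle : Y' ≤ Y) (hY' : BMCoh.ContainsFj X (j + 1 + m) Y')
      (hd : WeilCoh.dim ((ι ⁻¹ᵁ Y' : Z.scheme.Opens) : Scheme.{u}) =
        WeilCoh.dim ((ι ⁻¹ᵁ Y : Z.scheme.Opens) : Scheme.{u})),
      (T.pull (Z.resLE (fun _ h => hle h : ι ⁻¹ᵁ Y' ≤ ι ⁻¹ᵁ Y) hd) M i n).hom b = 0 := by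
  obtain ⟨W, hle, hW, hd, hz⟩ := cls_eq_zero T M i n (containsFj_preimage ι hZ hY) b
    ((ModuleCat.subsingleton_of_isZero h0).elim _ _)
  let B : Set X.scheme := ι '' (W : Set Z.scheme)ᶜ
  have hB : IsClosed B := ι.isClosedEmbedding.isClosedMap _ W.isOpen.isClosed_compl
  have hF : BMCoh.ContainsFj X (j + 1 + m) (Y ⊓ ⟨Bᶜ, hB.isOpen_compl⟩) := fun y hy =>
    ⟨hY y hy, fun ⟨z, hz', hzy⟩ => hz' (hW z (by
      have h1 := pdim_closed ι z
      rw [hzy] at h1
      have h2 := pdim_add_codim Z z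
      have h3 := pdim_add_codim X y
      omega))⟩
  have hW' : ι ⁻¹ᵁ (Y ⊓ ⟨Bᶜ, hB.isOpen_compl⟩) ≤ W := fun z hz' =>
    by_contra fun hn => hz'.2 ⟨z, hn, rfl⟩
  have hd' := dim_eq_of_containsFj Z (containsFj_preimage ι hZ hF)
  have hdY := dim_eq_of_containsFj Z (containsFj_preimage ι hZ hY)
  refine ⟨_, inf_le_left, hF, hd'.trans hdY.symm, ?_⟩
  have e : Z.resLE (fun _ h => h.1 : ι ⁻¹ᵁ (Y ⊓ ⟨Bᶜ, hB.isOpen_compl⟩) ≤ ι ⁻¹ᵁ Y)
      (hd'.trans hdY.symm) = Z.resLE hW' ((hd'.trans hdY.symm).trans hd.symm) ≫ Z.resLE hle hd :=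
    (resLE_comp Z _ _ _ _).symm
  rw [e, ← pull_pull, hz, map_zero]

include hZ in
theorem isPullback_preimage {Y Y' : X.scheme.Opens} (hle : Y' ≤ Y) :
    IsPullback (Z.scheme.homOfLE (fun _ h => hle h : ι ⁻¹ᵁ Y' ≤ ι ⁻¹ᵁ Y)) (ι ∣_ Y') (ι ∣_ Y)
      (X.scheme.homOfLE hle) := by
  refine IsPullback.of_right ?_ ?_ (isPullback_morphismRestrict ι Y).flip
  · rw [Scheme.homOfLE_ι, Scheme.homOfLE_ι]
    exact (isPullback_morphismRestrict ι Y').flip
  · rw [← cancel_mono Y.ι, Category.assoc, Category.assoc, Scheme.homOfLE_ι, morphismRestrict_ι,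
      morphismRestrict_ι, Scheme.homOfLE_ι_assoc]

include hZ in
theorem isPullback_resLE {Y Y' : X.scheme.Opens} (hle : Y' ≤ Y)
    (hdZ : WeilCoh.dim ((ι ⁻¹ᵁ Y' : Z.scheme.Opens) : Scheme.{u}) =
      WeilCoh.dim ((ι ⁻¹ᵁ Y : Z.scheme.Opens) : Scheme.{u}))
    (hdY : WeilCoh.dim (Y' : Scheme.{u}) = WeilCoh.dim (Y : Scheme.{u})) :
    IsPullback (Z.resLE (fun _ h => hle h : ι ⁻¹ᵁ Y' ≤ ι ⁻¹ᵁ Y) hdZ).hom (ι ∣_ Y') (ι ∣_ Y)
      (X.resLE hle hdY).hom :=
  isPullback_preimage ι hZ hle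

omit hZ in
theorem fjRes_bijective_of_closed
    (hZ0 : ∀ (Z : BMCoh.Obj V) (ι : Z.scheme ⟶ X.scheme) [IsClosedImmersion ι] [IsReduced Z.scheme],
      WeilCoh.dim Z.scheme + (j + 1) = WeilCoh.dim X.scheme →
      Limits.IsZero (T.fjGp Z m M (i - 2 * ((j : ℤ) + 1)) (n - ((j : ℤ) + 1))) ∧
        Limits.IsZero (T.fjGp Z m M (i + 1 - 2 * ((j : ℤ) + 1)) (n - ((j : ℤ) + 1))))
    (hjm : j ≤ j + 1 + m) : Function.Bijective ((T.fjRes X hjm i n).app M).hom := by
  rcases Nat.lt_or_ge (WeilCoh.dim X.scheme) (j + 1) with hsmall | hbig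
  · have h1 := toFj_bijective_of_dim_le T (X := X) (k := j + 1 + m) M i n (by omega)
    have h2 := toFj_bijective_of_dim_le T (X := X) (k := j) M i n (by omega)
    refine (Function.Bijective.of_comp_iff _ h1).1 ?_
    exact (funext fun a => fjRes_toFj T M i n hjm a :
      ((T.fjRes X hjm i n).app M).hom ∘ ((T.toFj X (j + 1 + m) i n).app M).hom =
        ((T.toFj X j i n).app M).hom) ▸ h2
  refine ⟨(injective_iff_map_eq_zero _).2 fun a ha => ?_, fun a => ?_⟩
  · obtain ⟨Y₀, hY₀, c, rfl⟩ := exists_cls T M i n a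
    rw [fjRes_cls] at ha
    obtain ⟨U, hle, hU, hd0, hz⟩ := cls_eq_zero T M i n _ c ha
    obtain ⟨Z, ι, hcl, hred, hsub, hcd, hZ⟩ := exists_closed (X := X) (j := j) (U : Set X.scheme)ᶜ
      U.isOpen.isClosed_compl (fun y hy => not_lt.1 fun hlt => hy (hU y (Nat.lt_succ_iff.1 hlt))) hbig
    have hU' : BMCoh.ContainsFj X j (complRange ι) := fun y hy hyr => by
      have := hcd y hyr
      omega
    have hd := dim_inf hU' (BMCoh.containsFj_mono X hjm Y₀ hY₀)
    have hle' : complRange ι ⊓ Y₀ ≤ U := fun y hy => by_contra fun hn => hy.1 (hsub hn)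
    have h0 : (T.pull (decompOf ι hd).j M i n).hom c = 0 := by
      have e : (decompOf ι hd).j = X.resLE hle' (hd.trans hd0.symm) ≫ X.resLE hle hd0 :=
        (resLE_comp X _ _ _ _).symm
      rw [e, ← pull_pull]
      erw [hz]
      exact map_zero _
    have hc : BMCoh.relCodim (decompOf ι hd).Z.scheme (X.res Y₀).scheme = ((j + 1 : ℕ) : ℤ) :=
      relCodim_preimage ι hZ hY₀
    obtain ⟨k, rfl⟩ : ∃ k, i = k + 1 := ⟨i - 1, by omega⟩
    obtain ⟨b, hb⟩ := (T.exact_push_pull (decompOf ι hd) M k n (k + 1 - 2 * ((j : ℤ) + 1))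
      (n - ((j : ℤ) + 1)) (by omega) (by omega) c).1 h0
    obtain ⟨Y', hle'', hY', hdZ, hzb⟩ := exists_shrink (T := T) ι hZ (hZ0 Z ι hZ).1 hY₀ b
    have hdY := (dim_eq_of_containsFj X hY').trans (dim_eq_of_containsFj X hY₀).symm
    have hc' := relCodim_preimage ι hZ hY'
    have hc0 := relCodim_preimage ι hZ hY₀
    have e := congr($(T.push_pull (ι ∣_ Y₀) (ι ∣_ Y') (X.resLE hle'' hdY)
      (Z.resLE (fun _ h => hle'' h : ι ⁻¹ᵁ Y' ≤ ι ⁻¹ᵁ Y₀) hdZ) (isPullback_resLE ι hZ hle'' hdZ hdY)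
      M (k + 1 - 2 * ((j : ℤ) + 1)) (n - ((j : ℤ) + 1)) (k + 1) n (by omega) (by omega) (by omega)
      (by omega)).hom b)
    rw [← cls_pull T M (k + 1) n hle'' hY₀ hY' hdY]
    refine (congrArg (cls T M (k + 1) n hY') ?_).trans (map_zero _)
    rw [← hb]
    refine e.trans ?_
    refine Eq.trans (congrArg (fun t => (T.push (X := Z.res (ι ⁻¹ᵁ Y')) (Y := X.res Y') (ι ∣_ Y') M
      (k + 1 - 2 * ((j : ℤ) + 1)) (n - ((j : ℤ) + 1)) (k + 1) n (by omega) (by omega)).hom t) hzb) ?_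
    exact map_zero _
  · obtain ⟨U, hU, y, rfl⟩ := exists_cls T M i n a
    obtain ⟨Z, ι, hcl, hred, hsub, hcd, hZ⟩ := exists_closed (X := X) (j := j) (U : Set X.scheme)ᶜ
      U.isOpen.isClosed_compl (fun y hy => not_lt.1 fun hlt => hy (hU y (Nat.lt_succ_iff.1 hlt))) hbig
    have hU' : BMCoh.ContainsFj X j (complRange ι) := fun z hz hzr => by
      have := hcd z hzr
      omega
    have hT : BMCoh.ContainsFj X (j + 1 + m) (⊤ : X.scheme.Opens) := fun _ _ => trivial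
    have hd := dim_inf hU' (BMCoh.containsFj_mono X hjm ⊤ hT)
    have hle' : complRange ι ⊓ ⊤ ≤ U := fun z hz => by_contra fun hn => hz.1 (hsub hn)
    have hUY : BMCoh.ContainsFj X j (complRange ι ⊓ ⊤) := fun z hz => ⟨hU' z hz, trivial⟩
    have hdU := (dim_eq_of_containsFj X hUY).trans (dim_eq_of_containsFj X hU).symm
    have hc : (decompOf ι hd).codim = ((j + 1 : ℕ) : ℤ) := relCodim_preimage ι hZ hT
    let y' := (T.pull (X.resLE hle' hdU) M i n).hom y
    obtain ⟨Y', hle'', hY', hdZ, hzb⟩ := exists_shrink (T := T) ι hZ (hZ0 Z ι hZ).2 hT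
      ((T.res (decompOf ι hd) M i n (i + 1 - 2 * ((j : ℤ) + 1)) (n - ((j : ℤ) + 1))
        (by omega) (by omega)).hom y')
    have hY'j := BMCoh.containsFj_mono X hjm Y' hY'
    have hd' := dim_inf hU' hY'j
    have hUY' : BMCoh.ContainsFj X j (complRange ι ⊓ Y') := fun z hz => ⟨hU' z hz, hY'j z hz⟩
    have hdI := (dim_eq_of_containsFj X hUY').trans (dim_eq_of_containsFj X hUY).symm
    have hc' : (decompOf ι hd').codim = ((j + 1 : ℕ) : ℤ) := relCodim_preimage ι hZ hY'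
    have hdY := (dim_eq_of_containsFj X hY').trans (dim_eq_of_containsFj X hT).symm
    have e := congr($(T.res_pull (decompOf ι hd) (decompOf ι hd') (X.resLE hle'' hdY)
      (Z.resLE (fun _ h => hle'' h : ι ⁻¹ᵁ Y' ≤ ι ⁻¹ᵁ (⊤ : X.scheme.Opens)) hdZ)
      (X.resLE (inf_le_inf_left _ hle'') hdI) (isPullback_resLE ι hZ hle'' hdZ hdY).w
      ((resLE_comp X (inf_le_inf_left _ hle'') inf_le_right hdI hd).trans
        (resLE_comp X inf_le_right hle'' hd' hdY).symm)
      M i n (i + 1 - 2 * ((j : ℤ) + 1)) (n - ((j : ℤ) + 1)) (by omega) (by omega) (by omega)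
      (by omega)).hom y')
    obtain ⟨c, hc2⟩ := (T.exact_pull_res (decompOf ι hd') M i n (i + 1 - 2 * ((j : ℤ) + 1))
      (n - ((j : ℤ) + 1)) (by omega) (by omega) _).1 (e.symm.trans hzb)
    refine ⟨cls T M i n hY' c, ?_⟩
    rw [fjRes_cls, ← cls_pull T M i n (inf_le_right : complRange ι ⊓ Y' ≤ Y') hY'j hUY' hd',
      ← cls_pull T M i n hle' hU hUY hdU,
      ← cls_pull T M i n (inf_le_inf_left (complRange ι) hle'') hUY hUY' hdI]
    exact congrArg (cls T M i n hUY') hc2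

end Groth.Agent.BMLib
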