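import Groth.Agent.BMLib.Dim
import Mathlib.CategoryTheory.Limits.Types.Filtered
import Mathlib.CategoryTheory.Limits.Preserves.Filtered
import Mathlib.Algebra.Category.ModuleCat.FilteredColimits

/-!
# Elements of the open-system colimits
-/

set_option autoImplicit false
set_option backward.isDefEq.respectTransparency false

universe u

open CategoryTheory AlgebraicGeometry CategoryTheory.Limits Opposite

namespace Groth.Agent.BMLib

variable {V : ObjectProperty Scheme.{u}} [BMCoh.IsConstructible V] {R : Type u} [CommRing R]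
  {A : BMCoh.Coefs R} (T : BMCoh.PreTheory V R A) (X : BMCoh.Obj V)

omit [BMCoh.IsConstructible V] in
theorem isCofiltered_idx (P : X.scheme.Opens → Prop)
    (hne : ∃ U : X.scheme.Opens, P U ∧ WeilCoh.dim (U : Scheme.{u}) = WeilCoh.dim X.scheme)
    (hinf : ∀ U U' : BMCoh.Idx X P, ∃ W : BMCoh.Idx X P, W ≤ U ∧ W ≤ U') :
    IsCofiltered (BMCoh.Idx X P) :=
  have : IsCofilteredOrEmpty (BMCoh.Idx X P) :=
    { cone_objs := fun U U' => by
        obtain ⟨W, h1, h2⟩ := hinf U U'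
        exact ⟨W, homOfLE h1, homOfLE h2, trivial⟩
      cone_maps := fun U U' f g => ⟨U, 𝟙 U, Subsingleton.elim _ _⟩ }
  { nonempty := ⟨⟨hne.choose, hne.choose_spec⟩⟩ }

instance isCofiltered_fj (j : ℕ) : IsCofiltered (BMCoh.Idx X (BMCoh.ContainsFj X j)) :=
  isCofiltered_idx X _ ⟨⊤, fun _ _ => trivial, BMCoh.dim_top _⟩ fun U U' =>
    ⟨⟨U.1 ⊓ U'.1, fun y hy => ⟨U.2.1 y hy, U'.2.1 y hy⟩,
      dim_eq_of_containsFj X (fun y hy => ⟨U.2.1 y hy, U'.2.1 y hy⟩)⟩, (show U.1 ⊓ U'.1 ≤ U.1 from inf_le_left), (show U.1 ⊓ U'.1 ≤ U'.1 from inf_le_right)⟩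

instance isCofiltered_pt (x : X.scheme) : IsCofiltered (BMCoh.ptIdx X x) := by
  have hirr := irreducibleSpace_ptSub X x
  have hne : ((⊤ : (X.ptSub x).scheme.Opens) : Set (X.ptSub x).scheme).Nonempty := ⟨Classical.arbitrary _, trivial⟩
  refine isCofiltered_idx (X.ptSub x) _ ⟨⊤, hne, BMCoh.dim_top _⟩ fun U U' => ?_
  have h : ((U.1 ⊓ U'.1 : (X.ptSub x).scheme.Opens) : Set (X.ptSub x).scheme).Nonempty :=
    nonempty_preirreducible_inter U.1.isOpen U'.1.isOpen U.2.1 U'.2.1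
  exact ⟨⟨U.1 ⊓ U'.1, h,
    BMCoh.IsConstructible.dim_open (X.ptSub x).mem hirr _ h⟩, (show U.1 ⊓ U'.1 ≤ U.1 from inf_le_left), (show U.1 ⊓ U'.1 ≤ U'.1 from inf_le_right)⟩

variable {X} (P : X.scheme.Opens → Prop) (M : A.Cat) (i n : ℤ)

/-- The map of a pair of nested members of the index family. -/
noncomputable abbrev idxHom {U' U : BMCoh.Idx X P} (h : U' ≤ U) : X.res U'.1 ⟶ X.res U.1 :=
  X.resLE h (U'.2.2.trans U.2.2.symm)

theorem ocolimι_pull {U' U : BMCoh.Idx X P} (h : U' ≤ U) (y : T.gp (X.res U.1) M i n) :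
    ((T.ocolimι X P i n U').app M).hom ((T.pull (idxHom P h) M i n).hom y) =
      ((T.ocolimι X P i n U).app M).hom y := by
  have e := colimit.w ((BMCoh.idxDiag X P).op ⋙ T.H i n) (homOfLE h).op
  exact congr($(congrArg (fun η => NatTrans.app η M) e) y)

theorem exists_rep [IsCofiltered (BMCoh.Idx X P)] (a : (T.ocolim X P i n).obj M) :
    ∃ (U : BMCoh.Idx X P) (y : T.gp (X.res U.1) M i n), ((T.ocolimι X P i n U).app M).hom y = a := by
  let F := (BMCoh.idxDiag X P).op ⋙ T.H i n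
  let G := (evaluation A.Cat (ModuleCat.{u} R)).obj M ⋙ forget (ModuleCat.{u} R)
  obtain ⟨U, y, hy⟩ := Types.jointly_surjective (F ⋙ G) (isColimitOfPreserves G (colimit.isColimit F)) a
  exact ⟨U.unop, y, hy⟩

theorem exists_eq_zero [IsCofiltered (BMCoh.Idx X P)] {U : BMCoh.Idx X P} (y : T.gp (X.res U.1) M i n)
    (h : ((T.ocolimι X P i n U).app M).hom y = 0) :
    ∃ (U' : BMCoh.Idx X P) (hle : U' ≤ U), (T.pull (idxHom P hle) M i n).hom y = 0 := by
  let F := (BMCoh.idxDiag X P).op ⋙ T.H i n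
  let G := (evaluation A.Cat (ModuleCat.{u} R)).obj M ⋙ forget (ModuleCat.{u} R)
  have h0 : ((T.ocolimι X P i n U).app M).hom y = ((T.ocolimι X P i n U).app M).hom 0 := by
    rw [h, map_zero]
  obtain ⟨k, f, hf⟩ := (Types.FilteredColimit.isColimit_eq_iff'
    (isColimitOfPreserves G (colimit.isColimit F)) (i := op U) y (0 : T.gp (X.res U.1) M i n)).1 h0
  refine ⟨k.unop, f.unop.le, ?_⟩
  exact hf.trans (map_zero (T.pull (idxHom P f.unop.le) M i n).hom)

theorem ocolimι_ocolimMap {Q : X.scheme.Opens → Prop} (hPQ : ∀ U, P U → Q U) (U : BMCoh.Idx X P)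
    (y : T.gp (X.res U.1) M i n) :
    ((T.ocolimMap X hPQ i n).app M).hom (((T.ocolimι X P i n U).app M).hom y) =
      ((T.ocolimι X Q i n ⟨U.1, hPQ _ U.2.1, U.2.2⟩).app M).hom y := by
  have e := colimit.ι_pre ((BMCoh.idxDiag X Q).op ⋙ T.H i n) (BMCoh.idxIncl X hPQ).op (op U)
  exact congr($(congrArg (fun η => NatTrans.app η M) e) y)

end Groth.Agent.BMLib
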