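import Groth.Agent.BMLib.Pieces

/-!
# Germs of classes at points, and the Gysin sequence in the limit
-/

set_option autoImplicit false
set_option backward.isDefEq.respectTransparency false
set_option linter.unusedSectionVars false

universe u

open CategoryTheory AlgebraicGeometry

namespace Groth.Agent.BMLib

variable {V : ObjectProperty Scheme.{u}} [BMCoh.IsConstructible V] {R : Type u} [CommRing R]
  {A : BMCoh.Coefs R} (T : BMCoh.PreTheory V R A) {X : BMCoh.Obj V} {k j : ℕ} (M : A.Cat)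
  (i n i' n' : ℤ)

/-- A member of the index family of F_kX. -/
abbrev fjIdx (X : BMCoh.Obj V) {k : ℕ} {Y : X.scheme.Opens} (hY : BMCoh.ContainsFj X k Y) :
    BMCoh.Idx X (BMCoh.ContainsFj X k) :=
  ⟨Y, hY, dim_eq_of_containsFj X hY⟩

/-- The class in H(F_kX) of a class on an open containing F_kX. -/
noncomputable abbrev cls {Y : X.scheme.Opens} (hY : BMCoh.ContainsFj X k Y)
    (c : T.gp (X.res Y) M i n) : T.fjGp X k M i n :=
  ((T.fjι X k i n (fjIdx X hY)).app M).hom c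

theorem exists_cls (a : T.fjGp X k M i n) :
    ∃ (Y : X.scheme.Opens) (hY : BMCoh.ContainsFj X k Y) (c : T.gp (X.res Y) M i n),
      cls T M i n hY c = a := by
  obtain ⟨U, y, hy⟩ := exists_rep T (BMCoh.ContainsFj X k) M i n a
  exact ⟨U.1, U.2.1, y, hy⟩

theorem cls_pull {Y Y' : X.scheme.Opens} (hle : Y' ≤ Y) (hY : BMCoh.ContainsFj X k Y)
    (hY' : BMCoh.ContainsFj X k Y')
    (hd : WeilCoh.dim (Y' : Scheme.{u}) = WeilCoh.dim (Y : Scheme.{u})) (c : T.gp (X.res Y) M i n) :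
    cls T M i n hY' ((T.pull (X.resLE hle hd) M i n).hom c) = cls T M i n hY c :=
  ocolimι_pull T (BMCoh.ContainsFj X k) M i n (U' := fjIdx X hY') (U := fjIdx X hY) hle c

theorem cls_eq_zero {Y : X.scheme.Opens} (hY : BMCoh.ContainsFj X k Y) (c : T.gp (X.res Y) M i n)
    (h : cls T M i n hY c = 0) :
    ∃ (Y' : X.scheme.Opens) (hle : Y' ≤ Y) (_ : BMCoh.ContainsFj X k Y')
      (hd : WeilCoh.dim (Y' : Scheme.{u}) = WeilCoh.dim (Y : Scheme.{u})),
      (T.pull (X.resLE hle hd) M i n).hom c = 0 := by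
  obtain ⟨U', hle, hU'⟩ := exists_eq_zero T (BMCoh.ContainsFj X k) M i n (U := fjIdx X hY) c h
  exact ⟨U'.1, hle, U'.2.1, U'.2.2.trans (dim_eq_of_containsFj X hY).symm, hU'⟩

theorem fjRes_cls {m : ℕ} (hkm : k ≤ m) {Y : X.scheme.Opens} (hY : BMCoh.ContainsFj X m Y)
    (c : T.gp (X.res Y) M i n) :
    ((T.fjRes X hkm i n).app M).hom (cls T M i n hY c) =
      cls T M i n (BMCoh.containsFj_mono X hkm Y hY) c :=
  ocolimι_ocolimMap T M i n (P := BMCoh.ContainsFj X m) (fun U => BMCoh.containsFj_mono X hkm U)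
    (fjIdx X hY) c

theorem dim_inf {U Y : X.scheme.Opens} (hU : BMCoh.ContainsFj X j U)
    (hY : BMCoh.ContainsFj X j Y) :
    WeilCoh.dim ((U ⊓ Y : X.scheme.Opens) : Scheme.{u}) = WeilCoh.dim (Y : Scheme.{u}) := by
  rw [dim_eq_of_containsFj X hY]
  exact dim_eq_of_containsFj X (j := j) fun y hy => ⟨hU y hy, hY y hy⟩

theorem resLE_comp (Z : BMCoh.Obj V) {U₁ U₂ U₃ : Z.scheme.Opens} (a : U₁ ≤ U₂) (b : U₂ ≤ U₃)
    (p : WeilCoh.dim (U₁ : Scheme.{u}) = WeilCoh.dim (U₂ : Scheme.{u}))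
    (q : WeilCoh.dim (U₂ : Scheme.{u}) = WeilCoh.dim (U₃ : Scheme.{u})) :
    Z.resLE a p ≫ Z.resLE b q = Z.resLE (a.trans b) (p.trans q) :=
  BMCoh.Hom.ext (Scheme.homOfLE_homOfLE Z.scheme a b)

variable {s : Finset (X.cdPt k)} {Y Y' : X.scheme.Opens}

/-- The germ at a member of a class on the union cut down to an open. -/
noncomputable abbrev germ (h : Pieces X s Y) {x : X.cdPt k} (hx : x ∈ s)
    (b : T.gp (zObj X s Y) M i n) : T.ptGp X x.1 M i n :=
  ((T.ptι X x.1 i n (ptW X (h.mem x hx))).app M).hom ((T.pull (h.g hx) M i n).hom b)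

theorem ptι_gW (hle : Y' ≤ Y) {x : X.scheme} (hx' : x ∈ Y')
    (c : T.gp ((X.ptSub x).res (ptOpen X x Y)) M i n) :
    ((T.ptι X x i n (ptW X hx')).app M).hom ((T.pull (gW hle hx') M i n).hom c) =
      ((T.ptι X x i n (ptW X (hle hx'))).app M).hom c :=
  ocolimι_pull T _ M i n (U' := ptW X hx') (U := ptW X (hle hx')) (fun _ hz => hle hz) c

theorem germ_gZ (hle : Y' ≤ Y) (h : Pieces X s Y) (h' : Pieces X s Y') {x : X.cdPt k} (hx : x ∈ s)
    (b : T.gp (zObj X s Y) M i n) :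
    germ T M i n h' hx ((T.pull (gZ hle h h') M i n).hom b) = germ T M i n h hx b := by
  show ((T.ptι X x.1 i n _).app M).hom _ = _
  rw [pull_pull, g_gZ, ← pull_pull, ptι_gW]

theorem exists_pull_gZ_eq_zero (h : Pieces X s Y) (hY : BMCoh.ContainsFj X k Y)
    (b : T.gp (zObj X s Y) M i n) (hb : ∀ x (hx : x ∈ s), germ T M i n h hx b = 0) :
    ∃ (Y' : X.scheme.Opens) (hle : Y' ≤ Y) (hY' : BMCoh.ContainsFj X k Y'),
      (T.pull (gZ hle h (h.shrink hle hY')) M i n).hom b = 0 := by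
  classical
  have hch : ∀ a : {x // x ∈ s}, ∃ Y₁ : X.scheme.Opens, ∃ hle : Y₁ ≤ Y,
      ∃ hY₁ : BMCoh.ContainsFj X k Y₁,
      (T.pull (gW hle (hY₁ a.1.1 a.1.2.le)) M i n).hom ((T.pull (h.g a.2) M i n).hom b) = 0 := by
    intro a
    obtain ⟨U', hle, hU'⟩ := exists_eq_zero T _ M i n (U := ptW X (h.mem a.1 a.2)) _ (hb a.1 a.2)
    obtain ⟨Y₁, hY₁, hle₁⟩ := exists_open_le_ptIdx X a.1.1 U'
    rw [a.1.2] at hY₁
    have hF : BMCoh.ContainsFj X k (Y ⊓ Y₁) := fun y hy => ⟨hY y hy, hY₁ y hy⟩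
    refine ⟨Y ⊓ Y₁, inf_le_left, hF, ?_⟩
    have hle' : (ptW X (hF a.1.1 a.1.2.le)) ≤ U' := fun w hw => hle₁ hw.2
    have e : gW (inf_le_left : Y ⊓ Y₁ ≤ Y) (hF a.1.1 a.1.2.le) =
        idxHom (X := X.ptSub a.1.1) _ hle' ≫ idxHom (X := X.ptSub a.1.1) _ hle :=
      (resLE_comp (X.ptSub a.1.1) _ _ _ _).symm
    rw [e, ← pull_pull]
    exact (congrArg _ hU').trans (map_zero _)
  choose Y₁ hle₁ hY₁ hz₁ using hch
  have hF : BMCoh.ContainsFj X k (Y ⊓ Finset.univ.inf Y₁) := fun y hy => ⟨hY y hy,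
    Finset.inf_induction (p := fun U : X.scheme.Opens => y ∈ U) trivial (fun _ h1 _ h2 => ⟨h1, h2⟩)
      fun a _ => hY₁ a y hy⟩
  refine ⟨_, inf_le_left, hF, ?_⟩
  refine eq_zero_of_pieces T M i n (Finset.univ : Finset {x // x ∈ s})
    ⟨⟨_, h.nonempty.choose_spec⟩, Finset.mem_univ _⟩ (fun a => (X.ptSub a.1.1).res _)
    (fun a => (h.shrink inf_le_left hF).g a.2) (fun a => inferInstance)
    (fun a _ c _ hac => (h.shrink inf_le_left hF).disjoint a.2 c.2 fun e => hac (Subtype.ext e))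
    (fun z => ?_) _ fun a _ => ?_
  · obtain ⟨x, hx, hz⟩ := exists_mem_range_gHom _ z
    exact ⟨⟨x, hx⟩, Finset.mem_univ _, hz⟩
  · have hle2 : Y ⊓ Finset.univ.inf Y₁ ≤ Y₁ a := inf_le_right.trans (Finset.inf_le (Finset.mem_univ a))
    have e : gW (inf_le_left : Y ⊓ Finset.univ.inf Y₁ ≤ Y) (hF a.1.1 a.1.2.le) =
        gW hle2 (hF a.1.1 a.1.2.le) ≫ gW (hle₁ a) (hY₁ a a.1.1 a.1.2.le) :=
      (resLE_comp (X.ptSub a.1.1) _ _ _ _).symm
    rw [pull_pull, g_gZ, ← pull_pull, e, ← pull_pull, hz₁ a, map_zero]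

/-- Classes at the members of a family come from one class near the points of codimension at most k. -/
theorem exists_glue (t : Finset (X.cdPt k)) (ht : t.Nonempty) {Y₀ : X.scheme.Opens}
    (hY₀ : BMCoh.ContainsFj X k Y₀) (ξ : ∀ x : X.cdPt k, T.ptGp X x.1 M i n) :
    ∃ (Y : X.scheme.Opens) (_ : Y ≤ Y₀) (_ : BMCoh.ContainsFj X k Y) (h : Pieces X t Y)
      (b : T.gp (zObj X t Y) M i n), ∀ x (hx : x ∈ t), germ T M i n h hx b = ξ x := by
  classical
  have hch : ∀ x : X.cdPt k, ∃ (Y₁ : X.scheme.Opens) (hY₁ : BMCoh.ContainsFj X k Y₁)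
      (c : T.gp ((X.ptSub x.1).res (ptOpen X x.1 Y₁)) M i n),
      ((T.ptι X x.1 i n (ptW X (hY₁ x.1 x.2.le))).app M).hom c = ξ x := by
    intro x
    obtain ⟨U, y, hy⟩ := exists_rep T _ M i n (X := X.ptSub x.1) (ξ x)
    obtain ⟨Y₁, hY₁, hle₁⟩ := exists_open_le_ptIdx X x.1 U
    rw [x.2] at hY₁
    exact ⟨Y₁, hY₁, _, (ocolimι_pull T _ M i n (U' := ptW X (hY₁ x.1 x.2.le)) (U := U) hle₁ y).trans hy⟩
  choose Y₁ hY₁ c hc using hch
  have hF : BMCoh.ContainsFj X k (Y₀ ⊓ t.inf Y₁) := fun y hy => ⟨hY₀ y hy,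
    Finset.inf_induction (p := fun U : X.scheme.Opens => y ∈ U) trivial (fun _ h1 _ h2 => ⟨h1, h2⟩)
      fun x _ => hY₁ x y hy⟩
  obtain ⟨Y, hle, hY, h⟩ := exists_pieces X t ht hF
  have hle' : ∀ a : {x // x ∈ t}, Y ≤ Y₁ a.1 := fun a =>
    hle.trans (inf_le_right.trans (Finset.inf_le a.2))
  obtain ⟨b, hb⟩ := exists_pull_eq T M i n (ι := {x // x ∈ t})
    (fun a => (X.ptSub a.1.1).res (ptOpen X a.1.1 Y)) (fun a => h.g a.2)
    (fun a c hac => h.disjoint a.2 c.2 fun e => hac (Subtype.ext e))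
    (fun a => (T.pull (gW (hle' a) (h.mem a.1 a.2)) M i n).hom (c a.1))
  refine ⟨Y, hle.trans inf_le_left, hY, h, b, fun x hx => ?_⟩
  show ((T.ptι X x.1 i n _).app M).hom _ = _
  rw [hb ⟨x, hx⟩, ptι_gW, hc]

/-- Either U contains F_(j+1)X, or its complement is, near F_(j+1)X, a union of closures of points
of codimension j + 1. -/
theorem exists_good {U : X.scheme.Opens} (hU : BMCoh.ContainsFj X j U) {Y₀ : X.scheme.Opens}
    (hY₀ : BMCoh.ContainsFj X (j + 1) Y₀) :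
    BMCoh.ContainsFj X (j + 1) U ∨
      ∃ (s : Finset (X.cdPt (j + 1))) (Y : X.scheme.Opens), Y ≤ Y₀ ∧
        BMCoh.ContainsFj X (j + 1) Y ∧ Pieces X s Y ∧
        (∀ x : X.cdPt (j + 1), x ∈ s ↔ x.1 ∉ U) ∧
        ∀ y ∈ Y, y ∉ U ↔ ∃ x ∈ s, x.1 ⤳ y := by
  obtain ⟨t, Y₁, hY₁, ht, hcov⟩ := exists_cover X (k := j + 1) U.isOpen.isClosed_compl fun y hy =>
    not_lt.1 fun hlt => hy (hU y (Nat.lt_succ_iff.1 hlt))
  rcases t.eq_empty_or_nonempty with rfl | hne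
  · refine Or.inl fun y hy => by_contra fun hn => ?_
    obtain ⟨x, hx, -⟩ := hcov y (hY₁ y hy) hn
    exact absurd hx (Finset.notMem_empty x)
  · obtain ⟨Y, hle, hY, h⟩ := exists_pieces X t hne (Y₀ := Y₀ ⊓ Y₁) fun y hy => ⟨hY₀ y hy, hY₁ y hy⟩
    refine Or.inr ⟨t, Y, hle.trans inf_le_left, hY, h, ht, fun y hy => ⟨hcov y (hle hy).2, ?_⟩⟩
    rintro ⟨x, hx, hxy⟩ hyU
    exact (ht x).1 hx (hxy.mem_open U.isOpen hyU)

theorem compl_sClosed_iff (Y : X.scheme.Opens) : ∀ y ∈ Y,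
    y ∉ (sClosed X s).compl ↔ ∃ x ∈ s, x.1 ⤳ y := fun y _ =>
  not_not.trans (mem_sClosed X s)

theorem containsFj_compl_sClosed (s : Finset (X.cdPt (j + 1))) :
    BMCoh.ContainsFj X j (sClosed X s).compl := fun y hy hys => by
  obtain ⟨x, -, hx⟩ := (mem_sClosed X s).1 hys
  have h1 := codim_mono X hx
  have h2 := x.2
  omega

theorem mem_compl_sClosed {x : X.cdPt k} (hx : x ∉ s) : x.1 ∈ (sClosed X s).compl := fun hxs => by
  obtain ⟨a, ha, hax⟩ := (mem_sClosed X s).1 hxs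
  rcases eq_or_ne a.1 x.1 with he | hne
  · exact hx (Subtype.ext he ▸ ha)
  · have h1 := codim_lt X hax hne
    have h2 := a.2
    have h3 := x.2
    omega

theorem zι_pull_push (hle : Y' ≤ Y) (h : Pieces X s Y) (h' : Pieces X s Y')
    (hi : i' = i + 2 * BMCoh.relCodim (zObj X s Y).scheme (X.res Y).scheme)
    (hn : n' = n + BMCoh.relCodim (zObj X s Y).scheme (X.res Y).scheme)
    (hi' : i' = i + 2 * BMCoh.relCodim (zObj X s Y').scheme (X.res Y').scheme)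
    (hn' : n' = n + BMCoh.relCodim (zObj X s Y').scheme (X.res Y').scheme)
    (hd : WeilCoh.dim (Y' : Scheme.{u}) = WeilCoh.dim (Y : Scheme.{u}))
    (b : T.gp (zObj X s Y) M i n) :
    (T.pull (X.resLE hle hd) M i' n').hom ((T.push (zι X s Y) M i n i' n' hi hn).hom b) =
      (T.push (zι X s Y') M i n i' n' hi' hn').hom ((T.pull (gZ hle h h') M i n).hom b) :=
  congr($(T.push_pull (zι X s Y) (zι X s Y') (X.resLE hle hd) (gZ hle h h')
    (isPullback_gZ hle h h') M i n i' n' hi hn hi' hn').hom b)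

theorem res_gZ {U : X.scheme.Opens} (hle : Y' ≤ Y) (h : Pieces X s Y) (h' : Pieces X s Y')
    (hcU : ∀ y ∈ Y, y ∉ U ↔ ∃ x ∈ s, x.1 ⤳ y)
    (hd : WeilCoh.dim ((U ⊓ Y : X.scheme.Opens) : Scheme.{u}) = WeilCoh.dim (Y : Scheme.{u}))
    (hd' : WeilCoh.dim ((U ⊓ Y' : X.scheme.Opens) : Scheme.{u}) = WeilCoh.dim (Y' : Scheme.{u}))
    (hi : i' = i + 1 - 2 * (h.decomp hcU hd).codim) (hn : n' = n - (h.decomp hcU hd).codim)
    (hi' : i' = i + 1 - 2 * (h'.decomp (fun y hy => hcU y (hle hy)) hd').codim)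
    (hn' : n' = n - (h'.decomp (fun y hy => hcU y (hle hy)) hd').codim)
    (hdU : WeilCoh.dim ((U ⊓ Y' : X.scheme.Opens) : Scheme.{u}) =
      WeilCoh.dim ((U ⊓ Y : X.scheme.Opens) : Scheme.{u}))
    (y : T.gp (X.res (U ⊓ Y)) M i n) :
    (T.pull (gZ hle h h') M i' n').hom ((T.res (h.decomp hcU hd) M i n i' n' hi hn).hom y) =
      (T.res (h'.decomp (fun y hy => hcU y (hle hy)) hd') M i n i' n' hi' hn').hom
        ((T.pull (X.resLE (inf_le_inf_left U hle) hdU) M i n).hom y) :=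
  congr($(T.res_pull (h.decomp hcU hd) (h'.decomp (fun y hy => hcU y (hle hy)) hd')
    (X.resLE hle (h'.dim_eq.trans h.dim_eq.symm)) (gZ hle h h')
    (X.resLE (inf_le_inf_left U hle) hdU) (isPullback_gZ hle h h').w
    ((resLE_comp X (inf_le_inf_left U hle) inf_le_right hdU hd).trans
      (resLE_comp X inf_le_right hle hd' (h'.dim_eq.trans h.dim_eq.symm)).symm)
    M i n i' n' hi hn hi' hn').hom y)

/-- A class killed by restriction to F_jX is pushed forward from codimension j + 1. -/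
theorem exists_push_of_fjRes_eq_zero (hi : i' = i + 2 * ((j + 1 : ℕ) : ℤ))
    (hn : n' = n + ((j + 1 : ℕ) : ℤ)) (a : T.fjGp X (j + 1) M i' n')
    (ha : ((T.fjRes X (Nat.le_succ j) i' n').app M).hom a = 0) :
    a = 0 ∨ ∃ (s : Finset (X.cdPt (j + 1))) (Y : X.scheme.Opens)
      (hY : BMCoh.ContainsFj X (j + 1) Y) (h : Pieces X s Y) (b : T.gp (zObj X s Y) M i n),
      a = cls T M i' n' hY ((T.push (zι X s Y) M i n i' n'
        (by rw [h.relCodim_zObj]; exact hi) (by rw [h.relCodim_zObj]; exact hn)).hom b) := by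
  obtain ⟨Y₀, hY₀, c, rfl⟩ := exists_cls T M i' n' a
  rw [fjRes_cls] at ha
  obtain ⟨U, hle, hU, hd0, hz⟩ := cls_eq_zero T M i' n' _ c ha
  rcases exists_good hU hY₀ with hU1 | ⟨s, Y, hleY, hY, h, -, hcU⟩
  · refine Or.inl ?_
    rw [← cls_pull T M i' n' hle hY₀ hU1 hd0, hz]
    exact map_zero _
  · refine Or.inr ⟨s, Y, hY, h, ?_⟩
    have hd := dim_inf hU (BMCoh.containsFj_mono X (Nat.le_succ j) Y hY)
    have hdY : WeilCoh.dim (Y : Scheme.{u}) = WeilCoh.dim (Y₀ : Scheme.{u}) :=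
      (dim_eq_of_containsFj X hY).trans (dim_eq_of_containsFj X hY₀).symm
    let D := h.decomp hcU hd
    have h0 : (T.pull D.j M i' n').hom ((T.pull (X.resLE hleY hdY) M i' n').hom c) = 0 := by
      have e : D.j ≫ X.resLE hleY hdY =
          X.resLE (inf_le_left : U ⊓ Y ≤ U) (hd.trans (hdY.trans hd0.symm)) ≫ X.resLE hle hd0 :=
        (resLE_comp X _ _ _ _).trans (resLE_comp X _ _ _ _).symm
      rw [pull_pull, e, ← pull_pull]
      erw [hz]
      exact map_zero _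
    obtain ⟨m, rfl⟩ : ∃ m, i' = m + 1 := ⟨i' - 1, by omega⟩
    have hc : BMCoh.relCodim D.Z.scheme (X.res Y).scheme = ((j + 1 : ℕ) : ℤ) := h.relCodim_zObj
    obtain ⟨b, hb⟩ := (T.exact_push_pull D M m n' i n (by rw [hc]; exact hi) (by rw [hc]; exact hn)
      _).1 h0
    exact ⟨b, ((congrArg (cls T M (m + 1) n' hY) hb).trans
      (cls_pull T M (m + 1) n' hleY hY₀ hY hdY c)).symm⟩

/-- A class on an open piece whose residue has no germ extends to F_(j+1)X. -/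
theorem mem_range_fjRes_of_germ {s : Finset (X.cdPt (j + 1))} {U : X.scheme.Opens}
    (hY : BMCoh.ContainsFj X (j + 1) Y) (h : Pieces X s Y)
    (hU : BMCoh.ContainsFj X j U) (hcU : ∀ y ∈ Y, y ∉ U ↔ ∃ x ∈ s, x.1 ⤳ y)
    (hd : WeilCoh.dim ((U ⊓ Y : X.scheme.Opens) : Scheme.{u}) = WeilCoh.dim (Y : Scheme.{u}))
    (hUY : BMCoh.ContainsFj X j (U ⊓ Y)) (y : T.gp (X.res (U ⊓ Y)) M i n)
    (hi : i' = i + 1 - 2 * (h.decomp hcU hd).codim) (hn : n' = n - (h.decomp hcU hd).codim)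
    (hg : ∀ x (hx : x ∈ s), germ T M i' n' h hx
      ((T.res (h.decomp hcU hd) M i n i' n' hi hn).hom y) = 0) :
    ∃ c, ((T.fjRes X (Nat.le_succ j) i n).app M).hom c = cls T M i n hUY y := by
  obtain ⟨Y', hle, hY', hz⟩ := exists_pull_gZ_eq_zero T M i' n' h hY _ hg
  have hY'j := BMCoh.containsFj_mono X (Nat.le_succ j) Y' hY'
  have hUY' : BMCoh.ContainsFj X j (U ⊓ Y') := fun z hz => ⟨hU z hz, hY'j z hz⟩
  have hd' := dim_inf hU hY'j
  have hdU := (dim_eq_of_containsFj X hUY').trans (dim_eq_of_containsFj X hUY).symm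
  have h1 : (h.decomp hcU hd).codim = ((j + 1 : ℕ) : ℤ) := h.decomp_codim hcU hd
  have h2 : ((h.shrink hle hY').decomp (fun z hz => hcU z (hle hz)) hd').codim = ((j + 1 : ℕ) : ℤ) :=
    (h.shrink hle hY').decomp_codim _ hd'
  rw [res_gZ T M i n i' n' hle h (h.shrink hle hY') hcU hd hd' hi hn (by omega) (by omega) hdU] at hz
  obtain ⟨c, hc⟩ := (T.exact_pull_res _ M i n i' n' (by omega) (by omega) _).1 hz
  refine ⟨cls T M i n hY' c, ?_⟩
  rw [fjRes_cls, ← cls_pull T M i n (inf_le_right : U ⊓ Y' ≤ Y') hY'j hUY' hd',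
    ← cls_pull T M i n (inf_le_inf_left U hle) hUY hUY' hdU]
  exact congrArg (cls T M i n hUY') hc

/-- A class on a union of closures pushed to zero in H(F_(j+1)X) is, near F_(j+1)X, a residue. -/
theorem exists_res_of_push_eq_zero {s : Finset (X.cdPt (j + 1))}
    (hY : BMCoh.ContainsFj X (j + 1) Y) (h : Pieces X s Y) (b : T.gp (zObj X s Y) M i' n')
    (hi : i + 1 = i' + 2 * BMCoh.relCodim (zObj X s Y).scheme (X.res Y).scheme)
    (hn : n = n' + BMCoh.relCodim (zObj X s Y).scheme (X.res Y).scheme)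
    (hb : cls T M (i + 1) n hY ((T.push (zι X s Y) M i' n' (i + 1) n hi hn).hom b) = 0) :
    ∃ (Y' : X.scheme.Opens) (hle : Y' ≤ Y) (hY' : BMCoh.ContainsFj X (j + 1) Y')
      (hd : WeilCoh.dim (((sClosed X s).compl ⊓ Y' : X.scheme.Opens) : Scheme.{u}) =
        WeilCoh.dim (Y' : Scheme.{u}))
      (hi2 : i' = i + 1 - 2 * ((h.shrink hle hY').decomp (compl_sClosed_iff Y') hd).codim)
      (hn2 : n' = n - ((h.shrink hle hY').decomp (compl_sClosed_iff Y') hd).codim)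
      (y : T.gp (X.res ((sClosed X s).compl ⊓ Y')) M i n),
      (T.res ((h.shrink hle hY').decomp (compl_sClosed_iff Y') hd) M i n i' n' hi2 hn2).hom y =
        (T.pull (gZ hle h (h.shrink hle hY')) M i' n').hom b := by
  obtain ⟨Y', hle, hY', hd', hz⟩ := cls_eq_zero T M (i + 1) n hY _ hb
  have hd := dim_inf (containsFj_compl_sClosed s) (BMCoh.containsFj_mono X (Nat.le_succ j) Y' hY')
  have h1 := h.relCodim_zObj
  have h2 := (h.shrink hle hY').relCodim_zObj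
  have hc : BMCoh.relCodim ((h.shrink hle hY').decomp (compl_sClosed_iff Y') hd).Z.scheme
      (X.res Y').scheme = ((j + 1 : ℕ) : ℤ) := h2
  have h3 : ((h.shrink hle hY').decomp (compl_sClosed_iff Y') hd).codim = ((j + 1 : ℕ) : ℤ) := h2
  rw [zι_pull_push T M i' n' (i + 1) n hle h (h.shrink hle hY') hi hn (by omega) (by omega) hd'] at hz
  obtain ⟨y, hy⟩ := (T.exact_res_push ((h.shrink hle hY').decomp (compl_sClosed_iff Y') hd) M i n
    i' n' (by omega) (by omega) (by omega) (by omega) _).1 hz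
  exact ⟨Y', hle, hY', hd, _, _, y, hy⟩

end Groth.Agent.BMLib
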