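import Groth.Agent.BMLib.Core

/-!
# Push-forward data and residue data computed on representatives
-/

set_option autoImplicit false
set_option backward.isDefEq.respectTransparency false
set_option linter.unusedSectionVars false

universe u

open CategoryTheory AlgebraicGeometry

namespace Groth.Agent.BMLib

variable {V : ObjectProperty Scheme.{u}} [BMCoh.IsConstructible V] {R : Type u} [CommRing R]
  {A : BMCoh.Coefs R} {T : BMCoh.PreTheory V R A} {X : BMCoh.Obj V} {k j : ℕ} {M : A.Cat}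
  {i n i' n' : ℤ} {s : Finset (X.cdPt k)} {Y : X.scheme.Opens}

theorem push_cpt_germ (P : T.PushData X k) (h : Pieces X s Y) (hY : BMCoh.ContainsFj X k Y)
    (hi : i' = i + 2 * (k : ℤ)) (hn : n' = n + (k : ℤ))
    (hi' : i' = i + 2 * BMCoh.relCodim (zObj X s Y).scheme (X.res Y).scheme)
    (hn' : n' = n + BMCoh.relCodim (zObj X s Y).scheme (X.res Y).scheme)
    {x : X.cdPt k} (hx : x ∈ s) (b : T.gp (zObj X s Y) M i n) :
    (P.cpt x M i n i' n' hi hn).hom (germ T M i n h hx b) =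
      cls T M i' n' hY ((T.push (zι X s Y) M i n i' n' hi' hn').hom
        ((pushH T M i n (h.g hx)).hom ((T.pull (h.g hx) M i n).hom b))) := by
  have hp : IsProper (gHom hx Y) := inferInstance
  have h1 := h.relCodim_ptOpen hx
  have h2 : BMCoh.relCodim ((X.ptSub x.1).res (ptOpen X x.1 Y)).scheme (zObj X s Y).scheme = 0 :=
    relCodim_eq_zero (h.g hx)
  have e := P.cpt_spec x M i n i' n' hi hn (fjIdx X hY) (ptW X (h.mem x hx))
    (gHom hx Y ≫ zι X s Y) ((Category.assoc _ _ _).trans (gHom_zι_ι hx Y))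
    (by erw [h1]; exact hi) (by erw [h1]; exact hn)
  have e1 := congr($(e).hom ((T.pull (h.g hx) M i n).hom b))
  refine e1.trans (congrArg (cls T M i' n' hY) ?_)
  exact congr($((T.push_comp (gHom hx Y) (zι X s Y) M i n i n i' n'
    (by omega) (by omega) hi' hn' (by erw [h1]; exact hi) (by erw [h1]; exact hn)).symm).hom
      ((T.pull (h.g hx) M i n).hom b))

theorem cls_push_eq_sum (P : T.PushData X k) (h : Pieces X s Y) (hY : BMCoh.ContainsFj X k Y)
    (hi : i' = i + 2 * (k : ℤ)) (hn : n' = n + (k : ℤ))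
    (hi' : i' = i + 2 * BMCoh.relCodim (zObj X s Y).scheme (X.res Y).scheme)
    (hn' : n' = n + BMCoh.relCodim (zObj X s Y).scheme (X.res Y).scheme)
    (b : T.gp (zObj X s Y) M i n) :
    cls T M i' n' hY ((T.push (zι X s Y) M i n i' n' hi' hn').hom b) =
      ∑ a : {x // x ∈ s}, (P.cpt a.1 M i n i' n' hi hn).hom (germ T M i n h a.2 b) := by
  classical
  have : Nonempty {x // x ∈ s} := ⟨⟨_, h.nonempty.choose_spec⟩⟩
  simp_rw [push_cpt_germ P h hY hi hn hi' hn']
  conv_lhs => rw [← sum_pushH_pull T M i n (fun a : {x // x ∈ s} => (X.ptSub a.1.1).res _)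
    (fun a => h.g a.2) (fun a c hac => h.disjoint a.2 c.2 fun e => hac (Subtype.ext e))
    (fun z => by
      obtain ⟨x, hx, hz⟩ := exists_mem_range_gHom Y z
      exact ⟨⟨x, hx⟩, hz⟩) b]
  unfold cls
  simp only [map_sum]

theorem tot_eq_sum (P : T.PushData X k) (hi : i' = i + 2 * (k : ℤ)) (hn : n' = n + (k : ℤ))
    (t : Finset (X.cdPt k)) (ξ : T.ptSum X k M i n) (hξ : ∀ x, x ∉ t → ξ x = 0) :
    (P.tot M i n i' n' hi hn).hom ξ =
      ∑ a : {x // x ∈ t}, (P.cpt a.1 M i n i' n' hi hn).hom (ξ a.1) := by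
  classical
  have e : ξ = ∑ a : {x // x ∈ t},
      DirectSum.lof R (X.cdPt k) (fun y : X.cdPt k => T.ptGp X y.1 M i n) a.1 (ξ a.1) := by
    refine DFinsupp.ext fun x => ?_
    rw [show ((∑ a : {x // x ∈ t}, DirectSum.lof R (X.cdPt k)
        (fun y : X.cdPt k => T.ptGp X y.1 M i n) a.1 (ξ a.1)) x) =
        ∑ a : {x // x ∈ t}, (DirectSum.lof R (X.cdPt k)
        (fun y : X.cdPt k => T.ptGp X y.1 M i n) a.1 (ξ a.1)) x from DFinsupp.finset_sum_apply _ _ _]
    by_cases hx : x ∈ t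
    · rw [Finset.sum_eq_single_of_mem (⟨x, hx⟩ : {x // x ∈ t}) (Finset.mem_univ _)
        fun c _ hc => by
          rw [DirectSum.lof_eq_of, DirectSum.of_eq_of_ne]
          exact fun e => hc (Subtype.ext e.symm)]
      rw [DirectSum.lof_eq_of, DirectSum.of_eq_same]
    · rw [Finset.sum_eq_zero fun c _ => by
        rw [DirectSum.lof_eq_of, DirectSum.of_eq_of_ne]
        exact fun e => hx (e ▸ c.2), hξ x hx]
  conv_lhs => rw [e]
  rw [map_sum]
  exact Finset.sum_congr rfl fun a _ => P.tot_lof M i n i' n' hi hn a.1 (ξ a.1)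

/-- If a finitely supported family has, as germs, the family of a class, then the total push-forward
of the family is the push-forward of the class. -/
theorem tot_eq_cls_push (P : T.PushData X k) (h : Pieces X s Y) (hY : BMCoh.ContainsFj X k Y)
    (hi : i' = i + 2 * (k : ℤ)) (hn : n' = n + (k : ℤ))
    (hi' : i' = i + 2 * BMCoh.relCodim (zObj X s Y).scheme (X.res Y).scheme)
    (hn' : n' = n + BMCoh.relCodim (zObj X s Y).scheme (X.res Y).scheme)
    (b : T.gp (zObj X s Y) M i n) (ξ : T.ptSum X k M i n)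
    (hξ : ∀ x, x ∉ s → ξ x = 0) (hξb : ∀ x (hx : x ∈ s), ξ x = germ T M i n h hx b) :
    (P.tot M i n i' n' hi hn).hom ξ =
      cls T M i' n' hY ((T.push (zι X s Y) M i n i' n' hi' hn').hom b) := by
  rw [tot_eq_sum P hi hn s ξ hξ, cls_push_eq_sum P h hY hi hn hi' hn' b]
  exact Finset.sum_congr rfl fun a _ => congrArg _ (hξb a.1 a.2)

theorem res_cpt_cls (Q : T.ResData X j) {s : Finset (X.cdPt (j + 1))} (h : Pieces X s Y)
    {U : X.scheme.Opens} (hcU : ∀ y ∈ Y, y ∉ U ↔ ∃ x ∈ s, x.1 ⤳ y)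
    (hd : WeilCoh.dim ((U ⊓ Y : X.scheme.Opens) : Scheme.{u}) = WeilCoh.dim (Y : Scheme.{u}))
    (hUY : BMCoh.ContainsFj X j (U ⊓ Y))
    (hi : i' = i + 1 - 2 * ((j : ℤ) + 1)) (hn : n' = n - ((j : ℤ) + 1))
    (hiD : i' = i + 1 - 2 * (h.decomp hcU hd).codim) (hnD : n' = n - (h.decomp hcU hd).codim)
    {x : X.cdPt (j + 1)} (hx : x ∈ s) (y : T.gp (X.res (U ⊓ Y)) M i n) :
    (Q.cpt x M i n i' n' hi hn).hom (cls T M i n hUY y) =
      germ T M i' n' h hx ((T.res (h.decomp hcU hd) M i n i' n' hiD hnD).hom y) := by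
  have e := Q.cpt_spec x M i n i' n' hi hn (X.resι Y h.dim_eq) (h.decomp hcU hd)
    (ptW X (h.mem x hx)) (h.g hx) (gHom_zι_ι hx Y) (fjIdx X hUY) (𝟙 _)
    ((Category.id_comp _).trans (Scheme.homOfLE_ι _ (inf_le_right : U ⊓ Y ≤ Y))) hiD hnD
  have e1 := congr($(e).hom y)
  refine Eq.trans ?_ e1
  exact congrArg (fun t => (Q.cpt x M i n i' n' hi hn).hom (cls T M i n hUY t))
    (pull_id T M i n (X := X.res (U ⊓ Y)) y).symm

/-- The residue at a point inside the open a class is defined on vanishes. -/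
theorem res_cpt_cls_eq_zero (Q : T.ResData X j) {U : X.scheme.Opens}
    (hU : BMCoh.ContainsFj X j U) (hi : i' = i + 1 - 2 * ((j : ℤ) + 1))
    (hn : n' = n - ((j : ℤ) + 1)) {x : X.cdPt (j + 1)} (hx : x.1 ∈ U)
    (y : T.gp (X.res U) M i n) :
    (Q.cpt x M i n i' n' hi hn).hom (cls T M i n hU y) = 0 := by
  classical
  have h : Pieces X ({x} : Finset (X.cdPt (j + 1))) U :=
    ⟨⟨x, Finset.mem_singleton_self x⟩, dim_eq_of_containsFj X hU,
      fun a ha => Finset.mem_singleton.1 ha ▸ hx,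
      fun a ha b hb _ _ _ _ => (Finset.mem_singleton.1 ha).trans (Finset.mem_singleton.1 hb).symm⟩
  have hd := dim_inf (containsFj_compl_sClosed {x}) hU
  have hUY : BMCoh.ContainsFj X j ((sClosed X {x}).compl ⊓ U) :=
    fun z hz => ⟨containsFj_compl_sClosed {x} z hz, hU z hz⟩
  have hc : (h.decomp (compl_sClosed_iff U) hd).codim = ((j + 1 : ℕ) : ℤ) :=
    h.decomp_codim (compl_sClosed_iff U) hd
  rw [← cls_pull T M i n (inf_le_right : (sClosed X {x}).compl ⊓ U ≤ U) hU hUY hd y,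
    res_cpt_cls Q h (compl_sClosed_iff U) hd hUY hi hn (by omega) (by omega)
      (Finset.mem_singleton_self x)]
  have e0 := (T.exact_pull_res (h.decomp (compl_sClosed_iff U) hd) M i n i' n' (by omega)
    (by omega)).apply_apply_eq_zero y
  exact (congrArg (germ T M i' n' h (Finset.mem_singleton_self x)) e0).trans
    ((congrArg _ (map_zero _)).trans (map_zero _))

end Groth.Agent.BMLib
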