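import Groth.Agent.BMLib.Total

/-!
# The groups of F_0X for reduced X
-/

set_option autoImplicit false
set_option backward.isDefEq.respectTransparency false
set_option linter.unusedSectionVars false

universe u

open CategoryTheory AlgebraicGeometry

namespace Groth.Agent.BMLib

variable {V : ObjectProperty Scheme.{u}} [BMCoh.IsConstructible V] {R : Type u} [CommRing R]
  {A : BMCoh.Coefs R} {T : BMCoh.PreTheory V R A} {X : BMCoh.Obj V} {k : ℕ} {M : A.Cat} {i n : ℤ}
  {s : Finset (X.cdPt k)} {Y : X.scheme.Opens}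

/-- The groups of an empty object vanish. -/
theorem eq_zero_of_isEmpty (T : BMCoh.PreTheory V R A) (Z : BMCoh.Obj V) [IsEmpty Z.scheme]
    (a : T.gp Z M i n) : a = 0 := by
  let D : BMCoh.Decomp Z := ⟨Z, Z, 𝟙 _, inferInstance, 𝟙 Z, Subsingleton.elim _ _⟩
  have h0 : BMCoh.relCodim Z.scheme Z.scheme = 0 := sub_self _
  obtain ⟨m, rfl⟩ : ∃ m, i = m + 1 := ⟨i - 1, by omega⟩
  have h0' : BMCoh.relCodim D.Z.scheme Z.scheme = 0 := h0
  have e1 : T.push D.i M (m + 1) n (m + 1) n (by omega) (by omega) = 𝟙 _ := T.push_id Z M _ _ _ _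
  have e := (T.exact_push_pull D M m n (m + 1) n (by omega) (by omega)).apply_apply_eq_zero a
  rw [e1] at e
  exact (pull_id T M (m + 1) n a).symm.trans e

theorem isIso_zι [IsReduced X.scheme] (hcov : ∀ y ∈ Y, ∃ x ∈ s, x.1 ⤳ y) :
    IsIso (zι X s Y) := by
  have : Surjective (zι X s Y) := ⟨fun y => by
    have h1 : y.1 ∈ (sClosed X s : Set X.scheme) := (mem_sClosed X s).2 (hcov y.1 y.2)
    rw [← range_sι X s] at h1
    obtain ⟨z, hz⟩ := h1
    refine ⟨⟨z, show sι X s z ∈ Y by rw [hz]; exact y.2⟩, Y.ι.isEmbedding.injective ?_⟩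
    exact (congr($(morphismRestrict_ι (sι X s) Y) _)).trans hz⟩
  exact isIso_of_isClosedImmersion_of_surjective (zι X s Y)

/-- The closed immersion of the union as a morphism of objects, when it is everything. -/
noncomputable def zHom {s : Finset (X.cdPt 0)} (h : Pieces X s Y) [IsIso (zι X s Y)] :
    zObj X s Y ⟶ X.res Y :=
  ⟨zι X s Y, inferInstance, BMCoh.dim_eq_of_iso (asIso (zι X s Y))⟩

instance {s : Finset (X.cdPt 0)} (h : Pieces X s Y) [IsIso (zι X s Y)] : IsIso (zHom h).hom :=
  inferInstanceAs (IsIso (zι X s Y))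

instance {s : Finset (X.cdPt 0)} (h : Pieces X s Y) [IsIso (zι X s Y)] : IsProper (zHom h).hom :=
  inferInstanceAs (IsProper (zι X s Y))

theorem pushH_bijective {W Z : BMCoh.Obj V} (g : W ⟶ Z) [IsIso g.hom] [IsProper g.hom]
    (T : BMCoh.PreTheory V R A) : Function.Bijective (pushH T M i n g).hom :=
  (Function.Bijective.of_comp_iff' (pull_bijective_of_isIso T M i n g) _).1 (by
    rw [show ((T.pull g M i n).hom ∘ (pushH T M i n g).hom) = id from funext (pull_pushH T M i n g)]
    exact Function.bijective_id)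

variable [IsReduced X.scheme]

/-- Near F_0X a reduced object is the disjoint union of the closures of its points of codimension 0. -/
theorem exists_F0 (X : BMCoh.Obj V) :
    IsEmpty X.scheme ∨ ∃ (t : Finset (X.cdPt 0)) (Y : X.scheme.Opens),
      t.Nonempty ∧ BMCoh.ContainsFj X 0 Y ∧ (∀ x : X.cdPt 0, x ∈ t) ∧
        ∀ y ∈ Y, ∃ x ∈ t, x.1 ⤳ y := by
  obtain ⟨t, Y, hY, ht, hcov⟩ := exists_cover X (k := 0) isClosed_univ fun _ _ => Nat.zero_le _
  rcases t.eq_empty_or_nonempty with rfl | hne
  · refine Or.inl ⟨fun y => ?_⟩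
    have hdim : WeilCoh.dim X.scheme = 0 := by
      rw [← dim_eq_of_containsFj X (j := 0) (U := (⊥ : X.scheme.Opens)) fun z hz => by
        obtain ⟨x, hx, -⟩ := hcov z (hY z hz) trivial
        exact absurd hx (Finset.notMem_empty x)]
      have : IsEmpty ((⊥ : X.scheme.Opens) : Scheme.{u}) := ⟨fun w => w.2⟩
      show WeilCoh.natDim _ = 0
      exact Nat.le_zero.1 (natDim_le_of_height fun w => isEmptyElim w)
    exact Finset.notMem_empty _ ((ht ⟨y, Nat.le_zero.1 ((Nat.sub_le _ _).trans hdim.le)⟩).2 trivial)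
  · exact Or.inr ⟨t, Y, hne, hY, fun x => (ht x).2 trivial, fun y hy => hcov y hy trivial⟩

/-- Every class of H(F_0X) is pushed forward from the closures of the points of codimension 0. -/
theorem exists_push_F0 (a : T.fjGp X 0 M i n) :
    a = 0 ∨ ∃ (t : Finset (X.cdPt 0)) (Y : X.scheme.Opens) (hY : BMCoh.ContainsFj X 0 Y)
      (h : Pieces X t Y) (b : T.gp (zObj X t Y) M i n),
      a = cls T M i n hY ((T.push (zι X t Y) M i n i n (by rw [h.relCodim_zObj]; simp)
        (by rw [h.relCodim_zObj]; simp)).hom b) := by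
  obtain ⟨U, hU, c, rfl⟩ := exists_cls T M i n a
  rcases exists_F0 X with hemp | ⟨t, Y₀, hne, hY₀, -, hcov⟩
  · refine Or.inl ?_
    have : IsEmpty (X.res U).scheme := ⟨fun w => hemp.false w.1⟩
    rw [eq_zero_of_isEmpty T (X.res U) c]
    exact map_zero _
  · obtain ⟨Y, hle, hY, h⟩ := exists_pieces X t hne (Y₀ := U ⊓ Y₀) fun y hy => ⟨hU y hy, hY₀ y hy⟩
    have := isIso_zι (X := X) (s := t) (Y := Y) fun y hy => hcov y (hle hy).2
    have hd := (dim_eq_of_containsFj X hY).trans (dim_eq_of_containsFj X hU).symm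
    obtain ⟨b, hb⟩ := (pushH_bijective (M := M) (i := i) (n := n) (zHom h) T).2
      ((T.pull (X.resLE (hle.trans inf_le_left) hd) M i n).hom c)
    exact Or.inr ⟨t, Y, hY, h, b,
      ((congrArg (cls T M i n hY) hb).trans (cls_pull T M i n _ hU hY hd c)).symm⟩

theorem fjGp_zero_isZero (h0 : ∀ x : X.cdPt 0, Limits.IsZero (T.ptGp X x.1 M i n)) :
    Limits.IsZero (T.fjGp X 0 M i n) := by
  have : Subsingleton (T.fjGp X 0 M i n) := by
    refine subsingleton_of_forall_eq 0 fun a => ?_
    rcases exists_push_F0 a with rfl | ⟨t, Y, hY, h, b, rfl⟩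
    · rfl
    · obtain ⟨Y', hle, hY', hz⟩ := exists_pull_gZ_eq_zero T M i n h hY b fun x _ =>
        (ModuleCat.subsingleton_of_isZero (h0 x)).elim _ _
      have hd := (dim_eq_of_containsFj X hY').trans (dim_eq_of_containsFj X hY).symm
      have hc := (h.shrink hle hY').relCodim_zObj
      rw [← cls_pull T M i n hle hY hY' hd,
        zι_pull_push T M i n i n hle h (h.shrink hle hY') _ _ (by omega) (by omega) hd, hz, map_zero]
      exact map_zero _
  exact ModuleCat.isZero_of_subsingleton _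

theorem pushTot_bijective (P : T.PushData X 0) (hi : i = i + 2 * ((0 : ℕ) : ℤ))
    (hn : n = n + ((0 : ℕ) : ℤ)) : Function.Bijective (P.tot M i n i n hi hn).hom := by
  classical
  refine ⟨(injective_iff_map_eq_zero _).2 fun ξ hξ => ?_, fun a => ?_⟩
  · rcases exists_F0 X with hemp | ⟨t, Y₀, hne, hY₀, hall, hcov⟩
    · exact DFinsupp.ext fun x => (hemp.false x.1).elim
    · obtain ⟨Y, hle, hY, h, b, hb⟩ := exists_glue T M i n t hne hY₀ fun x => ξ x
      have hc := h.relCodim_zObj
      rw [tot_eq_cls_push P h hY hi hn (by omega) (by omega) b ξ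
        (fun x hx => absurd (hall x) hx) fun x hx => (hb x hx).symm] at hξ
      obtain ⟨Y', hle', hY', hd, hz⟩ := cls_eq_zero T M i n hY _ hξ
      have hc' := (h.shrink hle' hY').relCodim_zObj
      rw [zι_pull_push T M i n i n hle' h (h.shrink hle' hY') _ _ (by omega) (by omega) hd] at hz
      have := isIso_zι (X := X) (s := t) (Y := Y') fun y hy => hcov y (hle (hle' hy))
      have h0 := (injective_iff_map_eq_zero _).1
        (pushH_bijective (M := M) (i := i) (n := n) (zHom (h.shrink hle' hY')) T).1 _ hz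
      refine DFinsupp.ext fun x => ?_
      rw [← hb x (hall x), ← germ_gZ T M i n hle' h (h.shrink hle' hY') (hall x), h0]
      exact (congrArg _ (map_zero _)).trans (map_zero _)
  · rcases exists_push_F0 a with rfl | ⟨t, Y, hY, h, b, rfl⟩
    · exact ⟨0, map_zero _⟩
    · refine ⟨∑ a : {x // x ∈ t}, DirectSum.lof R (X.cdPt 0)
        (fun y : X.cdPt 0 => T.ptGp X y.1 M i n) a.1 (germ T M i n h a.2 b), ?_⟩
      rw [cls_push_eq_sum P h hY hi hn, map_sum]
      exact Finset.sum_congr rfl fun a _ => P.tot_lof M i n i n hi hn a.1 _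

omit [IsReduced X.scheme] in
/-- The vanishing of the groups of F_jX in high degree. -/
theorem fjGp_isZero (T : BMCoh.PreTheory V R A) [IsReduced X.scheme] (c : ℕ)
    (hc : ∀ (y : X.scheme) (k l : ℤ), (WeilCoh.pdim X.scheme y : ℤ) + c < k →
      Limits.IsZero (T.ptGp X y M k l)) :
    ∀ (j : ℕ) (i n : ℤ), (WeilCoh.dim X.scheme : ℤ) + j + c < i →
      Limits.IsZero (T.fjGp X j M i n) := by
  intro j
  induction j with
  | zero =>
    intro i n hi
    exact fjGp_zero_isZero fun x => hc x.1 i n (by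
      have := pdim_le_dim X x.1
      omega)
  | succ j ih =>
    intro i n hi
    have := ModuleCat.subsingleton_of_isZero (ih i n (by omega))
    have hinj := fjRes_injective_of_isZero (T := T) (X := X) (j := j) (M := M)
      (i := i - 2 * ((j + 1 : ℕ) : ℤ)) (n := n - ((j + 1 : ℕ) : ℤ)) (i' := i) (n' := n)
      (fun x => hc x.1 _ _ (by
        have := pdim_add_codim X x.1
        have := x.2
        omega)) (by ring) (by ring)
    have : Subsingleton (T.fjGp X (j + 1) M i n) := hinj.subsingleton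
    exact ModuleCat.isZero_of_subsingleton _

end Groth.Agent.BMLib
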