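import Groth.Agent.BMLib.Point

/-!
# Push-forward between groups of points along a generically bijective morphism
-/

set_option autoImplicit false
set_option backward.isDefEq.respectTransparency false
set_option linter.unusedSectionVars false

universe u

open CategoryTheory AlgebraicGeometry TopologicalSpace

namespace Groth.Agent.BMLib

variable {V : ObjectProperty Scheme.{u}} [BMCoh.IsConstructible V] {R : Type u} [CommRing R]
  {A : BMCoh.Coefs R} {T : BMCoh.PreTheory V R A} {Y X : BMCoh.Obj V} (φ : Y.scheme ⟶ X.scheme)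

theorem isPullback_homOfLE {P Q : Scheme.{u}} (f : P ⟶ Q) {U U' : Q.Opens} (hle : U' ≤ U) :
    IsPullback (P.homOfLE (fun _ h => hle h : f ⁻¹ᵁ U' ≤ f ⁻¹ᵁ U)) (f ∣_ U') (f ∣_ U)
      (Q.homOfLE hle) := by
  refine IsPullback.of_right ?_ ?_ (isPullback_morphismRestrict f U).flip
  · rw [Scheme.homOfLE_ι, Scheme.homOfLE_ι]
    exact (isPullback_morphismRestrict f U').flip
  · rw [← cancel_mono U.ι, Category.assoc, Category.assoc, Scheme.homOfLE_ι, morphismRestrict_ι,
      morphismRestrict_ι, Scheme.homOfLE_ι_assoc]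

theorem isIso_restrict_of_le {P Q : Scheme.{u}} (f : P ⟶ Q) {U U' : Q.Opens} (hle : U' ≤ U)
    [IsIso (f ∣_ U)] : IsIso (f ∣_ U') :=
  MorphismProperty.of_isPullback (P := MorphismProperty.isomorphisms Scheme)
    (isPullback_homOfLE f hle) (inferInstanceAs (IsIso (f ∣_ U)))

variable {φ} [IsProper φ]

/-- If the map of closures is an isomorphism over a nonempty open, push-forward is bijective. -/
theorem ptPush_bijective {y : Y.scheme} {x : X.scheme} (L : T.PtPush φ y x) (h : φ y = x)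
    (U : (X.ptSub x).scheme.Opens) (hU : (U : Set (X.ptSub x).scheme).Nonempty)
    [IsIso (ptMap φ y h ∣_ U)] (M : A.Cat) (i n : ℤ) : Function.Bijective (L.cpt M i n).hom := by
  let ψ := ptMap φ y h
  have hd : WeilCoh.pdim X.scheme x = WeilCoh.pdim Y.scheme y := by
    have e : (WeilCoh.dim (X.ptSub x).scheme : ℤ) - WeilCoh.dim (Y.ptSub y).scheme = 0 := L.codim_eq
    rw [dim_ptSub, dim_ptSub] at e
    omega
  have hirr := irreducibleSpace_ptSub X x
  have hnep : ∀ W' : BMCoh.ptIdx X x, (ψ ⁻¹ᵁ W'.1 : Set (Y.ptSub y).scheme).Nonempty := by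
    intro W'
    obtain ⟨w, hw⟩ : y ∈ Set.range (Y.ptSubι y) := range_ptSubι Y y ▸ subset_closure rfl
    obtain ⟨v, hv⟩ := W'.2.1
    refine ⟨w, ?_⟩
    have h1 : X.ptSubι x (ψ w) = x := by
      rw [show X.ptSubι x (ψ w) = φ (Y.ptSubι y w) from congr($(ptMap_ι y h) w), hw, h]
    have h2 : X.ptSubι x (ψ w) ⤳ X.ptSubι x v := by
      rw [h1]; exact specializes_iff_mem_closure.2 (range_ptSubι X x ▸ ⟨v, rfl⟩)
    exact ((X.ptSubι x).isEmbedding.isInducing.specializes_iff.1 h2).mem_open W'.1.isOpen hv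
  let pre : BMCoh.ptIdx X x → BMCoh.ptIdx Y y := fun W' => ⟨ψ ⁻¹ᵁ W'.1, hnep W',
    BMCoh.IsConstructible.dim_open (Y.ptSub y).mem (irreducibleSpace_ptSub Y y) _ (hnep W')⟩
  have hrc : ∀ W', BMCoh.relCodim ((Y.ptSub y).res (pre W').1).scheme
      ((X.ptSub x).res W'.1).scheme = 0 := by
    intro W'
    have h1 := dim_open_ptSub X x _ W'.2.1
    have h2 := dim_open_ptSub Y y _ (hnep W')
    show (WeilCoh.dim (W'.1 : Scheme.{u}) : ℤ) -
      WeilCoh.dim ((ψ ⁻¹ᵁ W'.1 : (Y.ptSub y).scheme.Opens) : Scheme.{u}) = 0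
    omega
  have hsmall : ∀ W' : BMCoh.ptIdx X x, ∃ W'' : BMCoh.ptIdx X x, W'' ≤ W' ∧ W''.1 ≤ U := fun W' => by
    have hne : ((W'.1 ⊓ U : (X.ptSub x).scheme.Opens) : Set (X.ptSub x).scheme).Nonempty :=
      nonempty_preirreducible_inter W'.1.isOpen U.isOpen W'.2.1 hU
    exact ⟨⟨W'.1 ⊓ U, hne, BMCoh.IsConstructible.dim_open (X.ptSub x).mem hirr _ hne⟩,
      (show W'.1 ⊓ U ≤ W'.1 from inf_le_left), inf_le_right⟩
  have := isProper_ptMap (φ := φ) y h
  have hv : ∀ (W' : BMCoh.ptIdx X x) b, (L.cpt M i n).hom (((T.ptι Y y i n (pre W')).app M).hom b) =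
      ((T.ptι X x i n W').app M).hom ((T.push (ψ ∣_ W'.1) M i n i n (by rw [hrc]; ring)
        (by rw [hrc]; ring)).hom b) := fun W' b => by
    obtain ⟨f, hf, hfe, hval⟩ := ptPush_cpt L h M i n (pre W') W' rfl (hrc W')
    obtain rfl : f = ψ ∣_ W'.1 := by
      rw [← cancel_mono W'.1.ι]; exact hfe.trans (morphismRestrict_ι _ _).symm
    exact hval b
  have hbij : ∀ W' : BMCoh.ptIdx X x, W'.1 ≤ U → Function.Bijective
      (T.push (ψ ∣_ W'.1) M i n i n (by rw [hrc]; ring) (by rw [hrc]; ring)).hom := fun W' hW' => by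
    have := isIso_restrict_of_le ψ hW'
    let g : (Y.ptSub y).res (pre W').1 ⟶ (X.ptSub x).res W'.1 :=
      ⟨ψ ∣_ W'.1, inferInstance, by have := hrc W'; unfold BMCoh.relCodim at this; omega⟩
    have : IsIso g.hom := inferInstanceAs (IsIso (ψ ∣_ W'.1))
    have : IsProper g.hom := inferInstanceAs (IsProper (ψ ∣_ W'.1))
    refine (Function.Bijective.of_comp_iff' (pull_bijective_of_isIso T M i n g) _).1 ?_
    exact (funext fun b => pull_pushH T M i n g b :
      ((T.pull g M i n).hom ∘ (pushH T M i n g).hom) = id) ▸ Function.bijective_id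
  refine ⟨(injective_iff_map_eq_zero _).2 fun a ha => ?_, fun c => ?_⟩
  · obtain ⟨W, b, rfl⟩ := exists_rep T _ M i n (X := Y.ptSub y) a
    obtain ⟨W', W₀, hle, e, hc⟩ := exists_test (φ := φ) h hd W
    obtain ⟨W1, hW1, hW1U⟩ := hsmall W'
    have hle1 : pre W1 ≤ W := le_trans (fun w hw => by rw [e]; exact hW1 hw) hle
    rw [← ocolimι_pull T _ M i n (U' := pre W1) (U := W) hle1 b] at ha ⊢
    rw [hv] at ha
    obtain ⟨W2, hW2, hz⟩ := exists_eq_zero T _ M i n (X := X.ptSub x) (U := W1) _ ha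
    have hd2 : pre W2 ≤ pre W1 := fun w hw => hW2 hw
    have hpp := congr($(T.push_pull (ψ ∣_ W1.1) (ψ ∣_ W2.1)
      (idxHom (X := X.ptSub x) _ hW2) (idxHom (X := Y.ptSub y) _ hd2)
      (show IsPullback (idxHom (X := Y.ptSub y) _ hd2).hom (ψ ∣_ W2.1) (ψ ∣_ W1.1)
          (idxHom (X := X.ptSub x) _ hW2).hom from isPullback_homOfLE ψ hW2) M i n i n (by rw [hrc]; ring)
      (by rw [hrc]; ring) (by rw [hrc]; ring) (by rw [hrc]; ring)).hom
        ((T.pull (idxHom (X := Y.ptSub y) _ hle1) M i n).hom b))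
    have h0 := (injective_iff_map_eq_zero _).1 (hbij W2 (le_trans hW2 hW1U)).1 _ (hpp.symm.trans hz)
    rw [← ocolimι_pull T _ M i n (U' := pre W2) (U := pre W1) hd2]
    exact (congrArg _ h0).trans (map_zero _)
  · obtain ⟨W', b, rfl⟩ := exists_rep T _ M i n (X := X.ptSub x) c
    obtain ⟨W1, hW1, hW1U⟩ := hsmall W'
    rw [← ocolimι_pull T _ M i n (U' := W1) (U := W') hW1 b]
    obtain ⟨a, ha⟩ := (hbij W1 hW1U).2 ((T.pull (idxHom (X := X.ptSub x) _ hW1) M i n).hom b)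
    exact ⟨_, (hv W1 a).trans (congrArg _ ha)⟩

end Groth.Agent.BMLib
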