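import Groth.Agent.BMLib.Point
import Groth.Agent.BMLib.Fzero
import Groth.Agent.BMLib.PointIso
import Mathlib.AlgebraicGeometry.PullbackCarrier

/-!
# Residue after push-forward from a finite cover of a closure
-/

set_option autoImplicit false
set_option backward.isDefEq.respectTransparency false
set_option linter.unusedSectionVars false

universe u

open CategoryTheory CategoryTheory.Limits AlgebraicGeometry TopologicalSpace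

namespace Groth.Agent.BMLib

variable {V : ObjectProperty Scheme.{u}} [BMCoh.IsConstructible V] {R : Type u} [CommRing R]
  {A : BMCoh.Coefs R} {T : BMCoh.PreTheory V R A} {Y X : BMCoh.Obj V} {φ : Y.scheme ⟶ X.scheme}
  [IsProper φ] {q : ℕ}

/-- The closed part of an open, pulled back to Y. -/
noncomputable abbrev pbObj (φ : Y.scheme ⟶ X.scheme) (s : Finset (X.cdPt (q + 1)))
    (G : X.scheme.Opens) : BMCoh.Obj V :=
  ⟨pullback (φ ∣_ G) (zι X s G),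
    BMCoh.IsConstructible.of_isClosedImmersion (pullback.fst (φ ∣_ G) (zι X s G))
      (h := inferInstance) (Y.res (φ ⁻¹ᵁ G)).mem⟩

theorem range_pbObj {s : Finset (X.cdPt (q + 1))} {G O : X.scheme.Opens}
    (hcU : ∀ y ∈ G, y ∉ O ↔ ∃ x ∈ s, x.1 ⤳ y) :
    Set.range (pullback.fst (φ ∣_ G) (zι X s G)) = {z | z.1 ∉ φ ⁻¹ᵁ O} := by
  have e1 : ∀ z, G.ι ((φ ∣_ G) z) = φ z.1 := fun z => congr($(morphismRestrict_ι φ G) z)
  have e2 : ∀ z, G.ι (zι X s G z) = sι X s z.1 := fun z => congr($(morphismRestrict_ι (sι X s) G) z)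
  rw [Scheme.Pullback.range_fst]
  ext z
  constructor
  · rintro ⟨v, hv⟩
    show ¬ φ z.1 ∈ O
    refine (hcU _ z.2).2 ((mem_sClosed X s).1 (range_sι X s ▸ ⟨v.1, ?_⟩))
    rw [← e2, ← e1, hv]
  · intro hz
    obtain ⟨v, hv⟩ : φ z.1 ∈ Set.range (sι X s) :=
      (range_sι X s).symm ▸ (mem_sClosed X s).2 ((hcU _ z.2).1 hz)
    refine ⟨⟨v, show sι X s v ∈ G by rw [hv]; exact z.2⟩, G.ι.isEmbedding.injective ?_⟩
    rw [e1, e2]
    exact hv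

/-- The decomposition of the preimage of an open. -/
noncomputable def pbDecomp {s : Finset (X.cdPt (q + 1))} {G O : X.scheme.Opens}
    (hcU : ∀ y ∈ G, y ∉ O ↔ ∃ x ∈ s, x.1 ⤳ y)
    (hd : WeilCoh.dim ((φ ⁻¹ᵁ O ⊓ φ ⁻¹ᵁ G : Y.scheme.Opens) : Scheme.{u}) =
      WeilCoh.dim ((φ ⁻¹ᵁ G : Y.scheme.Opens) : Scheme.{u})) :
    BMCoh.Decomp (Y.res (φ ⁻¹ᵁ G)) where
  Z := pbObj φ s G
  U := Y.res (φ ⁻¹ᵁ O ⊓ φ ⁻¹ᵁ G)
  i := pullback.fst (φ ∣_ G) (zι X s G)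
  closedImm := inferInstance
  j := Y.resLE inf_le_right hd
  range_eq := by
    rw [range_pbObj hcU]
    have e1 : ∀ v, (φ ⁻¹ᵁ G).ι ((Y.resLE (U := φ ⁻¹ᵁ O ⊓ φ ⁻¹ᵁ G) inf_le_right hd).hom v) =
        (φ ⁻¹ᵁ O ⊓ φ ⁻¹ᵁ G).ι v := fun v =>
      congr($(Y.scheme.homOfLE_ι (inf_le_right : φ ⁻¹ᵁ O ⊓ φ ⁻¹ᵁ G ≤ φ ⁻¹ᵁ G)) v)
    ext z
    constructor
    · rintro ⟨v, rfl⟩ hz
      exact hz (show (φ ⁻¹ᵁ G).ι _ ∈ φ ⁻¹ᵁ O by rw [e1]; exact v.2.1)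
    · intro hz
      exact ⟨⟨z.1, not_not.1 hz, z.2⟩, (φ ⁻¹ᵁ G).ι.isEmbedding.injective (e1 _)⟩

variable (hdim : WeilCoh.dim Y.scheme + q = WeilCoh.dim X.scheme)

include hdim in
theorem relCodim_preimage_open {G : X.scheme.Opens}
    (hG : WeilCoh.dim (G : Scheme.{u}) = WeilCoh.dim X.scheme)
    (hH : WeilCoh.dim ((φ ⁻¹ᵁ G : Y.scheme.Opens) : Scheme.{u}) = WeilCoh.dim Y.scheme) :
    BMCoh.relCodim (Y.res (φ ⁻¹ᵁ G)).scheme (X.res G).scheme = (q : ℤ) := by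
  show (WeilCoh.dim (G : Scheme.{u}) : ℤ) - WeilCoh.dim ((φ ⁻¹ᵁ G : Y.scheme.Opens) : Scheme.{u}) = _
  omega

include hdim in
theorem res_push_preimage {s : Finset (X.cdPt (q + 1))} {G O : X.scheme.Opens} (h : Pieces X s G)
    (hcU : ∀ y ∈ G, y ∉ O ↔ ∃ x ∈ s, x.1 ⤳ y)
    (hd : WeilCoh.dim ((O ⊓ G : X.scheme.Opens) : Scheme.{u}) = WeilCoh.dim (G : Scheme.{u}))
    (hO : WeilCoh.dim (O : Scheme.{u}) = WeilCoh.dim X.scheme)
    (hH : WeilCoh.dim ((φ ⁻¹ᵁ G : Y.scheme.Opens) : Scheme.{u}) = WeilCoh.dim Y.scheme)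
    (hdY : WeilCoh.dim ((φ ⁻¹ᵁ O ⊓ φ ⁻¹ᵁ G : Y.scheme.Opens) : Scheme.{u}) =
      WeilCoh.dim ((φ ⁻¹ᵁ G : Y.scheme.Opens) : Scheme.{u}))
    (hdO : WeilCoh.dim ((O ⊓ G : X.scheme.Opens) : Scheme.{u}) = WeilCoh.dim (O : Scheme.{u}))
    (hdV : WeilCoh.dim ((φ ⁻¹ᵁ O ⊓ φ ⁻¹ᵁ G : Y.scheme.Opens) : Scheme.{u}) =
      WeilCoh.dim ((φ ⁻¹ᵁ O : Y.scheme.Opens) : Scheme.{u}))
    (M : A.Cat) (i n i₁ n₁ i₂ n₂ a b : ℤ)
    (hi1 : i₁ = i + 2 * BMCoh.relCodim (Y.res (φ ⁻¹ᵁ O)).scheme (X.res O).scheme)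
    (hn1 : n₁ = n + BMCoh.relCodim (Y.res (φ ⁻¹ᵁ O)).scheme (X.res O).scheme)
    (hi2 : i₂ = i₁ + 1 - 2 * (h.decomp hcU hd).codim) (hn2 : n₂ = n₁ - (h.decomp hcU hd).codim)
    (ha : a = i + 1 - 2 * (pbDecomp (φ := φ) hcU hdY).codim)
    (hb : b = n - (pbDecomp (φ := φ) hcU hdY).codim)
    (he : i₂ = a + 2 * BMCoh.relCodim (pbObj φ s G).scheme (zObj X s G).scheme)
    (hk : n₂ = b + BMCoh.relCodim (pbObj φ s G).scheme (zObj X s G).scheme)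
    (c : T.gp (Y.res (φ ⁻¹ᵁ O)) M i n) :
    (T.res (h.decomp hcU hd) M i₁ n₁ i₂ n₂ hi2 hn2).hom
        ((T.pull (X.resLE (inf_le_left : O ⊓ G ≤ O) hdO) M i₁ n₁).hom
          ((T.push (X := Y.res (φ ⁻¹ᵁ O)) (Y := X.res O) (φ ∣_ O) M i n i₁ n₁ hi1 hn1).hom c)) =
      (T.push (X := pbObj φ s G) (Y := zObj X s G) (pullback.snd (φ ∣_ G) (zι X s G)) M a b i₂ n₂
        he hk).hom ((T.res (pbDecomp (φ := φ) hcU hdY) M i n a b ha hb).hom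
          ((T.pull (Y.resLE (inf_le_left : φ ⁻¹ᵁ O ⊓ φ ⁻¹ᵁ G ≤ φ ⁻¹ᵁ O) hdV) M i n).hom c)) := by
  have hU : BMCoh.relCodim (Y.res (φ ⁻¹ᵁ O ⊓ φ ⁻¹ᵁ G)).scheme (X.res (O ⊓ G)).scheme =
      BMCoh.relCodim (Y.res (φ ⁻¹ᵁ O)).scheme (X.res O).scheme := by
    show (WeilCoh.dim ((O ⊓ G : X.scheme.Opens) : Scheme.{u}) : ℤ) - _ =
      (WeilCoh.dim (O : Scheme.{u}) : ℤ) - _
    rw [hdO]
    exact congrArg _ (congrArg _ hdV)
  have e1 : (T.pull (X.resLE (inf_le_left : O ⊓ G ≤ O) hdO) M i₁ n₁).hom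
      ((T.push (X := Y.res (φ ⁻¹ᵁ O)) (Y := X.res O) (φ ∣_ O) M i n i₁ n₁ hi1 hn1).hom c) =
      (T.push (X := Y.res (φ ⁻¹ᵁ O ⊓ φ ⁻¹ᵁ G)) (Y := X.res (O ⊓ G)) (φ ∣_ (O ⊓ G)) M i n i₁ n₁
        (by rw [hU]; exact hi1) (by rw [hU]; exact hn1)).hom
        ((T.pull (Y.resLE (inf_le_left : φ ⁻¹ᵁ O ⊓ φ ⁻¹ᵁ G ≤ φ ⁻¹ᵁ O) hdV) M i n).hom c) :=
    congr($(T.push_pull (X := Y.res (φ ⁻¹ᵁ O)) (Y := X.res O)
      (X' := Y.res (φ ⁻¹ᵁ O ⊓ φ ⁻¹ᵁ G)) (Y' := X.res (O ⊓ G)) (φ ∣_ O) (φ ∣_ (O ⊓ G))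
      (X.resLE (inf_le_left : O ⊓ G ≤ O) hdO)
      (Y.resLE (inf_le_left : φ ⁻¹ᵁ O ⊓ φ ⁻¹ᵁ G ≤ φ ⁻¹ᵁ O) hdV)
      (isPullback_homOfLE φ (inf_le_left : O ⊓ G ≤ O)) M i n i₁ n₁ hi1 hn1
      (by rw [hU]; exact hi1) (by rw [hU]; exact hn1)).hom c)
  rw [e1]
  exact (congr($(T.res_push (h.decomp hcU hd) (pbDecomp (φ := φ) hcU hdY) (φ ∣_ G)
    (pullback.snd (φ ∣_ G) (zι X s G)) (φ ∣_ (O ⊓ G))
    (IsPullback.of_hasPullback (φ ∣_ G) (zι X s G))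
    (isPullback_homOfLE φ (inf_le_right : O ⊓ G ≤ G)) M i n a b i₁ n₁ i₂ n₂ ha hb
    (hU.symm ▸ hi1) (hU.symm ▸ hn1) he hk hi2 hn2).hom
      ((T.pull (Y.resLE (inf_le_left : φ ⁻¹ᵁ O ⊓ φ ⁻¹ᵁ G ≤ φ ⁻¹ᵁ O) hdV) M i n).hom c))).symm

variable (hgen : ∃ η : Y.scheme, (∀ y, η ⤳ y) ∧ WeilCoh.codim X.scheme (φ η) = q)
  (t : Y.cdPt 1 → X.cdPt (q + 1)) (ht : ∀ y : Y.cdPt 1, φ y.1 = (t y).1)

include hgen ht in
theorem containsFj_one_preimage {G : X.scheme.Opens} (hG : BMCoh.ContainsFj X (q + 1) G) :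
    BMCoh.ContainsFj Y 1 (φ ⁻¹ᵁ G) := fun y hy => by
  obtain ⟨η, hη, hηq⟩ := hgen
  rcases Nat.le_one_iff_eq_zero_or_eq_one.1 hy with h0 | h1
  · obtain rfl : η = y := by_contra fun hne => by
      have := codim_lt Y (hη y) hne
      omega
    exact hG _ (by omega)
  · show φ y ∈ G
    rw [ht ⟨y, h1⟩]
    exact hG _ (t ⟨y, h1⟩).2.le

include hgen in
theorem containsFj_zero_preimage {O : X.scheme.Opens} (hO : BMCoh.ContainsFj X q O) :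
    BMCoh.ContainsFj Y 0 (φ ⁻¹ᵁ O) := fun y hy => by
  obtain ⟨η, hη, hηq⟩ := hgen
  obtain rfl : η = y := by_contra fun hne => by
    have := codim_lt Y (hη y) hne
    omega
  exact hO _ hηq.le

include hdim in
theorem exists_open_preimage_le {H : Y.scheme.Opens} (hH : BMCoh.ContainsFj Y 1 H) :
    ∃ G : X.scheme.Opens, BMCoh.ContainsFj X (q + 1) G ∧ φ ⁻¹ᵁ G ≤ H := by
  have hcl : IsClosed (φ '' (H : Set Y.scheme)ᶜ) := φ.isClosedMap _ H.isOpen.isClosed_compl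
  refine ⟨⟨_, hcl.isOpen_compl⟩, fun x hx hxB => ?_, fun y hy => by_contra fun hn => hy ⟨y, hn, rfl⟩⟩
  obtain ⟨y, hy, rfl⟩ := hxB
  have h1 : ¬ WeilCoh.codim Y.scheme y ≤ 1 := fun hle => hy (hH y hle)
  have h2 := pdim_map_le φ y
  have h3 := pdim_add_codim Y y
  have h4 := pdim_add_codim X (φ y)
  omega

/-- Pieces of Y over pieces of X. -/
theorem exists_over {s : Finset (X.cdPt (q + 1))} {G O : X.scheme.Opens} (h : Pieces X s G)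
    (hcU : ∀ y ∈ G, y ∉ O ↔ ∃ x ∈ s, x.1 ⤳ y) {s' : Finset (Y.cdPt 1)}
    (h' : Pieces Y s' (φ ⁻¹ᵁ G))
    (hcV : ∀ y ∈ φ ⁻¹ᵁ G, y ∉ φ ⁻¹ᵁ O ↔ ∃ x ∈ s', x.1 ⤳ y) :
    ∃ (k : (zObj Y s' (φ ⁻¹ᵁ G)).scheme ⟶ (pbObj φ s G).scheme) (_ : IsClosedImmersion k)
      (_ : Surjective k), k ≫ pullback.fst (φ ∣_ G) (zι X s G) = zι Y s' (φ ⁻¹ᵁ G) ∧
      WeilCoh.dim (zObj Y s' (φ ⁻¹ᵁ G)).scheme = WeilCoh.dim (pbObj φ s G).scheme := by
  let f₁ := pullback.fst (φ ∣_ G) (zι X s G)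
  let f₂ := zι Y s' (φ ⁻¹ᵁ G)
  have e2 : ∀ z, (φ ⁻¹ᵁ G).ι (f₂ z) = sι Y s' z.1 := fun z =>
    congr($(morphismRestrict_ι (sι Y s') (φ ⁻¹ᵁ G)) z)
  have hr : Set.range f₂ = Set.range f₁ := by
    rw [range_pbObj hcU]
    ext z
    constructor
    · rintro ⟨v, rfl⟩
      refine (hcV _ (f₂ v).2).2 ((mem_sClosed Y s').1 ?_)
      rw [← range_sι Y s']
      exact ⟨v.1, (e2 v).symm⟩
    · intro hz
      obtain ⟨v, hv⟩ : z.1 ∈ Set.range (sι Y s') :=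
        (range_sι Y s').symm ▸ (mem_sClosed Y s').2 ((hcV _ z.2).1 hz)
      refine ⟨⟨v, show sι Y s' v ∈ φ ⁻¹ᵁ G by rw [hv]; exact z.2⟩,
        (φ ⁻¹ᵁ G).ι.isEmbedding.injective ?_⟩
      rw [e2]
      exact hv
  have hker : f₁.ker ≤ f₂.ker := by
    rw [Props12.ker_eq_vanishingIdeal f₂, ← Scheme.IdealSheafData.le_support_iff_le_vanishingIdeal]
    intro z hz
    have : z ∈ closure (Set.range f₁) := hr ▸ hz
    rw [← Scheme.Hom.support_ker] at this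
    exact this
  let k := IsClosedImmersion.lift f₁ f₂ hker
  have hk : k ≫ f₁ = f₂ := IsClosedImmersion.lift_fac _ _ _
  have : IsClosedImmersion (k ≫ f₁) := by rw [hk]; infer_instance
  have hkc : IsClosedImmersion k := IsClosedImmersion.of_comp k f₁
  have hks : Surjective k := ⟨fun z => by
    obtain ⟨v, hv⟩ : f₁ z ∈ Set.range f₂ := hr ▸ ⟨z, rfl⟩
    exact ⟨v, f₁.isEmbedding.injective ((congr($hk v)).trans hv)⟩⟩
  refine ⟨k, hkc, hks, hk, ?_⟩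
  have hhom : IsHomeomorph k := isHomeomorph_iff_isEmbedding_surjective.2 ⟨k.isEmbedding, k.surjective⟩
  show ((topologicalKrullDim _).unbotD 0).toNat = ((topologicalKrullDim _).unbotD 0).toNat
  rw [IsHomeomorph.topologicalKrullDim_eq _ hhom]

open Classical in
/-- The germ at a point x of the push-forward of a class on the closures over it. -/
theorem germ_push_over {s : Finset (X.cdPt (q + 1))} {G : X.scheme.Opens} (h : Pieces X s G)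
    {s' : Finset (Y.cdPt 1)} (h' : Pieces Y s' (φ ⁻¹ᵁ G))
    (f : (zObj Y s' (φ ⁻¹ᵁ G)).scheme ⟶ (zObj X s G).scheme) [IsProper f]
    (hf : f ≫ zι X s G = zι Y s' (φ ⁻¹ᵁ G) ≫ φ ∣_ G)
    (hts : ∀ y ∈ s', t y ∈ s) (F : ∀ y : Y.cdPt 1, T.PtPush φ y.1 (t y).1) (M : A.Cat) (i n : ℤ)
    (hi : i = i + 2 * BMCoh.relCodim (zObj Y s' (φ ⁻¹ᵁ G)).scheme (zObj X s G).scheme)
    (hn : n = n + BMCoh.relCodim (zObj Y s' (φ ⁻¹ᵁ G)).scheme (zObj X s G).scheme)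
    (r : T.gp (zObj Y s' (φ ⁻¹ᵁ G)) M i n) {x : X.cdPt (q + 1)} (hx : x ∈ s) :
    germ T M i n h hx ((T.push f M i n i n hi hn).hom r) =
      ∑ y : {y // y ∈ s'}, (DirectSum.component R (X.cdPt (q + 1))
        (fun z : X.cdPt (q + 1) => T.ptGp X z.1 M i n) x)
        ((BMCoh.PreTheory.PtPush.famTot t F M i n).hom
          (DirectSum.lof R (Y.cdPt 1) (fun z : Y.cdPt 1 => T.ptGp Y z.1 M i n) y.1
            (germ T M i n h' y.2 r))) := by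
  classical
  have : Nonempty {y // y ∈ s'} := ⟨⟨_, h'.nonempty.choose_spec⟩⟩
  conv_lhs => rw [← sum_pushH_pull T M i n (fun y : {y // y ∈ s'} => (Y.ptSub y.1.1).res _)
    (fun y => h'.g y.2) (fun y c hyc => h'.disjoint y.2 c.2 fun e => hyc (Subtype.ext e))
    (fun z => by
      obtain ⟨y, hy, hz⟩ := exists_mem_range_gHom (φ ⁻¹ᵁ G) z
      exact ⟨⟨y, hy⟩, hz⟩) r]
  show ((T.ptι X x.1 i n _).app M).hom _ = _
  simp only [map_sum]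
  refine Finset.sum_congr rfl fun y _ => ?_
  erw [BMCoh.PreTheory.PtPush.famTot_lof]
  have hφy : φ y.1.1 = (t y.1).1 := (F y.1).maps_pt
  have hty := hts y.1 y.2
  have hψ := isProper_ptMap (φ := φ) y.1.1 hφy
  let Wy := ptOpen Y y.1.1 (φ ⁻¹ᵁ G)
  let Wx := ptOpen X (t y.1).1 G
  have hrange : Set.range (Wy.ι ≫ ptMap φ y.1.1 hφy) ⊆ Set.range Wx.ι := by
    rw [Scheme.Opens.range_ι]
    rintro _ ⟨v, rfl⟩
    show X.ptSubι (t y.1).1 (ptMap φ y.1.1 hφy v.1) ∈ G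
    rw [show X.ptSubι (t y.1).1 (ptMap φ y.1.1 hφy v.1) = φ (Y.ptSubι y.1.1 v.1) from
      congr($(ptMap_ι y.1.1 hφy) v.1)]
    exact v.2
  let fy := IsOpenImmersion.lift Wx.ι (Wy.ι ≫ ptMap φ y.1.1 hφy) hrange
  have hfy : fy ≫ Wx.ι = Wy.ι ≫ ptMap φ y.1.1 hφy := IsOpenImmersion.lift_fac _ _ _
  have hsq : (h'.g y.2).hom ≫ f = fy ≫ (h.g hty).hom := by
    have b1 : fy ≫ gHom hty G ≫ zι X s G ≫ G.ι = (Wy.ι ≫ Y.ptSubι y.1.1) ≫ φ := by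
      rw [gHom_zι_ι, ← Category.assoc, hfy, Category.assoc, ptMap_ι, Category.assoc]
    have b2 : gHom y.2 (φ ⁻¹ᵁ G) ≫ zι Y s' (φ ⁻¹ᵁ G) ≫ (φ ∣_ G) ≫ G.ι =
        (Wy.ι ≫ Y.ptSubι y.1.1) ≫ φ := by
      rw [← gHom_zι_ι y.2, morphismRestrict_ι]
      simp only [Category.assoc]
    rw [← cancel_mono (zι X s G), ← cancel_mono G.ι]
    simp only [Category.assoc]
    show gHom y.2 (φ ⁻¹ᵁ G) ≫ f ≫ zι X s G ≫ G.ι = fy ≫ gHom hty G ≫ zι X s G ≫ G.ι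
    rw [b1, ← b2, reassoc_of% hf]
  have hp : IsProper ((h'.g y.2).hom ≫ f) := inferInstance
  have : IsProper fy := by
    rw [hsq] at hp
    exact IsProper.of_comp fy (h.g hty).hom
  have d1 : WeilCoh.dim ((Y.ptSub y.1.1).res Wy).scheme =
      WeilCoh.dim (zObj Y s' (φ ⁻¹ᵁ G)).scheme := (h'.g y.2).dim_eq
  have d2 : WeilCoh.dim ((X.ptSub (t y.1).1).res Wx).scheme = WeilCoh.dim (zObj X s G).scheme :=
    (h.g hty).dim_eq
  have h0 : BMCoh.relCodim ((Y.ptSub y.1.1).res Wy).scheme ((X.ptSub (t y.1).1).res Wx).scheme = 0 := by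
    have hi' : BMCoh.relCodim (zObj Y s' (φ ⁻¹ᵁ G)).scheme (zObj X s G).scheme = 0 := by omega
    unfold BMCoh.relCodim at hi' ⊢
    omega
  have h0' : BMCoh.relCodim ((Y.ptSub y.1.1).res Wy).scheme (zObj X s G).scheme = 0 := by
    unfold BMCoh.relCodim at h0 ⊢
    omega
  have key : (T.push f M i n i n hi hn).hom
      ((pushH T M i n (h'.g y.2)).hom ((T.pull (h'.g y.2) M i n).hom r)) =
      (pushH T M i n (h.g hty)).hom ((T.push (X := (Y.ptSub y.1.1).res Wy)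
        (Y := (X.ptSub (t y.1).1).res Wx) fy M i n i n (by rw [h0]; ring) (by rw [h0]; ring)).hom
          ((T.pull (h'.g y.2) M i n).hom r)) := by
    have a1 := T.push_comp (h'.g y.2).hom f M i n i n i n (by rw [relCodim_eq_zero (h'.g y.2)]; ring)
      (by rw [relCodim_eq_zero (h'.g y.2)]; ring) hi hn (by rw [h0']; ring) (by rw [h0']; ring)
    have a2 := T.push_comp (X := (Y.ptSub y.1.1).res Wy) fy (h.g hty).hom M i n i n i n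
      (by rw [h0]; ring) (by rw [h0]; ring) (by rw [relCodim_eq_zero (h.g hty)]; ring)
      (by rw [relCodim_eq_zero (h.g hty)]; ring) (by rw [h0']; ring) (by rw [h0']; ring)
    simp only [hsq] at a1
    exact congr($(a1.trans a2.symm).hom ((T.pull (h'.g y.2) M i n).hom r))
  rw [key]
  rcases eq_or_ne (t y.1) x with rfl | hne
  · rw [DirectSum.component.lof_self, pull_pushH]
    exact (congr($((F y.1).cpt_spec M i n (ptW Y (h'.mem y.1 y.2)) (ptW X (h.mem _ hty)) fy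
      (by
        show fy ≫ Wx.ι ≫ _ = _
        rw [← Category.assoc, hfy, Category.assoc, ptMap_ι]; rfl)
      (by erw [h0]; ring) (by erw [h0]; ring)).hom ((T.pull (h'.g y.2) M i n).hom r))).symm
  · rw [pull_pushH_disjoint T M i n (h.g hty) (h.g hx) (h.disjoint hty hx hne), map_zero,
      DirectSum.component.of, dif_neg hne]

include hdim hgen ht in
theorem tot_push (Q : T.ResData X q) (Q' : T.ResData Y 0)
    (F : ∀ y : Y.cdPt 1, T.PtPush φ y.1 (t y).1)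
    (hred : ∀ (S : BMCoh.Obj V) (D D'' : BMCoh.Decomp S) (gU : D''.U ⟶ D.U)
      (k : D''.Z.scheme ⟶ D.Z.scheme) [IsClosedImmersion k] [AlgebraicGeometry.Surjective k],
      gU ≫ D.j = D''.j → k ≫ D.i = D''.i →
      ∀ (M : A.Cat) (i n i' n' : ℤ) (hi : i' = i + 1 - 2 * D.codim) (hn : n' = n - D.codim)
        (hi'' : i' = i + 1 - 2 * D''.codim) (hn'' : n' = n - D''.codim)
        (hk : i' = i' + 2 * BMCoh.relCodim D''.Z.scheme D.Z.scheme)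
        (hk' : n' = n' + BMCoh.relCodim D''.Z.scheme D.Z.scheme),
      T.pull gU M i n ≫ T.res D'' M i n i' n' hi'' hn'' ≫ T.push k M i' n' i' n' hk hk' =
        T.res D M i n i' n' hi hn)
    (M : A.Cat) (i n i₁ n₁ i₂ n₂ : ℤ)
    (h2 : i₂ = i₁ + 1 - 2 * ((q : ℤ) + 1)) (h2' : n₂ = n₁ - ((q : ℤ) + 1))
    (h4 : i₂ = i + 1 - 2 * (((0 : ℕ) : ℤ) + 1)) (h4' : n₂ = n - (((0 : ℕ) : ℤ) + 1))
    {O : X.scheme.Opens} (hO : BMCoh.ContainsFj X q O) (hV : BMCoh.ContainsFj Y 0 (φ ⁻¹ᵁ O))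
    (hi1 : i₁ = i + 2 * BMCoh.relCodim (Y.res (φ ⁻¹ᵁ O)).scheme (X.res O).scheme)
    (hn1 : n₁ = n + BMCoh.relCodim (Y.res (φ ⁻¹ᵁ O)).scheme (X.res O).scheme)
    (c : T.gp (Y.res (φ ⁻¹ᵁ O)) M i n) :
    (Q.tot M i₁ n₁ i₂ n₂ h2 h2').hom (cls T M i₁ n₁ hO
        ((T.push (X := Y.res (φ ⁻¹ᵁ O)) (Y := X.res O) (φ ∣_ O) M i n i₁ n₁ hi1 hn1).hom c)) =
      (BMCoh.PreTheory.PtPush.famTot t F M i₂ n₂).hom
        ((Q'.tot M i n i₂ n₂ h4 h4').hom (cls T M i n hV c)) := by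
  classical
  refine DFinsupp.ext fun x => ?_
  rw [BMCoh.PreTheory.ResData.tot_apply]
  let a' := (Q'.tot M i n i₂ n₂ h4 h4').hom (cls T M i n hV c)
  have hzero : ∀ y : Y.cdPt 1, φ y.1 ∈ O → a' y = 0 := fun y hy => by
    show (Q'.tot M i n i₂ n₂ h4 h4').hom _ y = 0
    rw [BMCoh.PreTheory.ResData.tot_apply]
    exact res_cpt_cls_eq_zero Q' hV h4 h4' hy c
  show _ = (BMCoh.PreTheory.PtPush.famTot t F M i₂ n₂).hom a' x
  -- the component at x of the right-hand side, over any finite set supporting it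
  have hrhs : ∀ s' : Finset (Y.cdPt 1), (∀ y, y ∉ s' → a' y = 0) →
      (BMCoh.PreTheory.PtPush.famTot t F M i₂ n₂).hom a' x =
      ∑ y : {y // y ∈ s'}, (DirectSum.component R (X.cdPt (q + 1))
        (fun z : X.cdPt (q + 1) => T.ptGp X z.1 M i₂ n₂) x)
        ((BMCoh.PreTheory.PtPush.famTot t F M i₂ n₂).hom
          (DirectSum.lof R (Y.cdPt 1) (fun z : Y.cdPt 1 => T.ptGp Y z.1 M i₂ n₂) y.1 (a' y.1))) := by
    intro s' hs'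
    rw [← map_sum, ← map_sum]
    congr 2
    refine DFinsupp.ext fun y => ?_
    rw [show ((∑ z : {y // y ∈ s'}, DirectSum.lof R (Y.cdPt 1)
        (fun z : Y.cdPt 1 => T.ptGp Y z.1 M i₂ n₂) z.1 (a' z.1)) y) =
        ∑ z : {y // y ∈ s'}, (DirectSum.lof R (Y.cdPt 1)
        (fun z : Y.cdPt 1 => T.ptGp Y z.1 M i₂ n₂) z.1 (a' z.1)) y from DFinsupp.finsetSum_apply _ _ _]
    by_cases hy : y ∈ s'
    · rw [Finset.sum_eq_single_of_mem (⟨y, hy⟩ : {y // y ∈ s'}) (Finset.mem_univ _)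
        fun z _ hz => by
          rw [DirectSum.lof_eq_of, DirectSum.of_eq_of_ne]
          exact fun e => hz (Subtype.ext e.symm)]
      rw [DirectSum.lof_eq_of, DirectSum.of_eq_same]
    · rw [Finset.sum_eq_zero fun z _ => by
        rw [DirectSum.lof_eq_of, DirectSum.of_eq_of_ne]
        exact fun e => hy (e ▸ z.2), hs' y hy]
  have hout : x.1 ∈ O → (Q.cpt x M i₁ n₁ i₂ n₂ h2 h2').hom (cls T M i₁ n₁ hO
        ((T.push (X := Y.res (φ ⁻¹ᵁ O)) (Y := X.res O) (φ ∣_ O) M i n i₁ n₁ hi1 hn1).hom c)) =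
      (BMCoh.PreTheory.PtPush.famTot t F M i₂ n₂).hom a' x := fun hxO => by
    rw [res_cpt_cls_eq_zero Q hO h2 h2' hxO,
      hrhs (DFinsupp.support a') fun y hy => DFinsupp.notMem_support_iff.1 hy]
    refine (Finset.sum_eq_zero fun y _ => ?_).symm
    erw [BMCoh.PreTheory.PtPush.famTot_lof]
    rw [DirectSum.component.of]
    by_cases hyx : t y.1 = x
    · subst hyx
      rw [dif_pos rfl, hzero y.1 ((ht y.1).symm ▸ hxO), map_zero]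
    · rw [dif_neg hyx]
  by_cases hxO : x.1 ∈ O
  · exact hout hxO
  rcases exists_good hO (Y₀ := ⊤) (fun _ _ => trivial) with hO1 | ⟨s, G₀, -, hG₀, h₀, hs, hcU₀⟩
  · exact absurd (hO1 x.1 x.2.le) hxO
  have hxs : x ∈ s := (hs x).2 hxO
  have hVd := dim_eq_of_containsFj Y hV
  have hOd := dim_eq_of_containsFj X hO
  rcases exists_good hV (Y₀ := φ ⁻¹ᵁ G₀) (containsFj_one_preimage hgen t ht hG₀) with
    hV1 | ⟨s', H, hHle, hH, h'₀, hs', hcV₀⟩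
  · obtain ⟨G₁, hG₁, hG₁V⟩ := exists_open_preimage_le (φ := φ) hdim hV1
    have hG : BMCoh.ContainsFj X (q + 1) (G₀ ⊓ G₁) := fun z hz => ⟨hG₀ z hz, hG₁ z hz⟩
    have hGq := BMCoh.containsFj_mono X (Nat.le_succ q) _ hG
    have hG0Y := containsFj_zero_preimage hgen hGq
    let h := h₀.shrink (inf_le_left : G₀ ⊓ G₁ ≤ G₀) hG
    have hcU : ∀ z ∈ G₀ ⊓ G₁, z ∉ O ↔ ∃ x ∈ s, x.1 ⤳ z := fun z hz => hcU₀ z hz.1
    have hd := dim_inf hO hGq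
    have hdY := dim_inf hV hG0Y
    have hOG : BMCoh.ContainsFj X q (O ⊓ (G₀ ⊓ G₁)) := fun z hz => ⟨hO z hz, hGq z hz⟩
    have hdO := (dim_eq_of_containsFj X hOG).trans hOd.symm
    have hdV := (dim_eq_of_containsFj Y (j := 0) (U := φ ⁻¹ᵁ O ⊓ φ ⁻¹ᵁ (G₀ ⊓ G₁))
      fun z hz => ⟨hV z hz, hG0Y z hz⟩).trans hVd.symm
    have hemp : IsEmpty (pbObj φ s (G₀ ⊓ G₁)).scheme := ⟨fun z => by
      have h1 : pullback.fst (φ ∣_ (G₀ ⊓ G₁)) (zι X s (G₀ ⊓ G₁)) z ∈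
          Set.range (pullback.fst (φ ∣_ (G₀ ⊓ G₁)) (zι X s (G₀ ⊓ G₁))) := ⟨z, rfl⟩
      rw [range_pbObj hcU] at h1
      exact h1 (hG₁V (pullback.fst (φ ∣_ (G₀ ⊓ G₁)) (zι X s (G₀ ⊓ G₁)) z).2.2)⟩
    have hcD : (h.decomp hcU hd).codim = ((q + 1 : ℕ) : ℤ) := h.decomp_codim hcU hd
    rw [← cls_pull T M i₁ n₁ (inf_le_left : O ⊓ (G₀ ⊓ G₁) ≤ O) hO hOG hdO,
      res_cpt_cls Q h hcU hd hOG h2 h2' (by omega) (by omega) hxs,
      res_push_preimage hdim h hcU hd hOd (dim_eq_of_containsFj Y hG0Y) hdY hdO hdV M i n i₁ n₁ i₂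
        n₂ (i + 1 - 2 * (pbDecomp (φ := φ) hcU hdY).codim) (n - (pbDecomp (φ := φ) hcU hdY).codim)
        hi1 hn1 (by omega) (by omega) rfl rfl
        (by
          have e1 : WeilCoh.dim (zObj X s (G₀ ⊓ G₁)).scheme + (q + 1) = _ := h.dim_zObj
          have e2 := dim_eq_of_containsFj Y hG0Y
          show i₂ = i + 1 - 2 * ((WeilCoh.dim ((φ ⁻¹ᵁ (G₀ ⊓ G₁) : Y.scheme.Opens) : Scheme.{u}) : ℤ) -
            WeilCoh.dim (pbObj φ s (G₀ ⊓ G₁)).scheme) + 2 * ((WeilCoh.dim (zObj X s (G₀ ⊓ G₁)).scheme : ℤ) -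
            WeilCoh.dim (pbObj φ s (G₀ ⊓ G₁)).scheme)
          omega)
        (by
          have e1 : WeilCoh.dim (zObj X s (G₀ ⊓ G₁)).scheme + (q + 1) = _ := h.dim_zObj
          have e2 := dim_eq_of_containsFj Y hG0Y
          show n₂ = n - ((WeilCoh.dim ((φ ⁻¹ᵁ (G₀ ⊓ G₁) : Y.scheme.Opens) : Scheme.{u}) : ℤ) -
            WeilCoh.dim (pbObj φ s (G₀ ⊓ G₁)).scheme) + ((WeilCoh.dim (zObj X s (G₀ ⊓ G₁)).scheme : ℤ) -
            WeilCoh.dim (pbObj φ s (G₀ ⊓ G₁)).scheme)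
          omega) c,
      hrhs ∅ fun y _ => hzero y (hV1 y.1 y.2.le)]
    rw [eq_zero_of_isEmpty T (pbObj φ s (G₀ ⊓ G₁))
      ((T.res (pbDecomp (φ := φ) hcU hdY) M i n _ _ rfl rfl).hom _)]
    simp only [map_zero]
    rw [Finset.univ_eq_empty, Finset.sum_empty]
    exact (congrArg _ (map_zero _)).trans (map_zero _)
  · obtain ⟨G₁, hG₁, hG₁H⟩ := exists_open_preimage_le (φ := φ) hdim hH
    have hG : BMCoh.ContainsFj X (q + 1) (G₀ ⊓ G₁) := fun z hz => ⟨hG₀ z hz, hG₁ z hz⟩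
    have hGq := BMCoh.containsFj_mono X (Nat.le_succ q) _ hG
    have hG1Y := containsFj_one_preimage hgen t ht hG
    have hG0Y := containsFj_zero_preimage hgen hGq
    let h := h₀.shrink (inf_le_left : G₀ ⊓ G₁ ≤ G₀) hG
    have hHle' : φ ⁻¹ᵁ (G₀ ⊓ G₁) ≤ H := fun z hz => hG₁H hz.2
    let h' := h'₀.shrink hHle' hG1Y
    have hcU : ∀ z ∈ G₀ ⊓ G₁, z ∉ O ↔ ∃ x ∈ s, x.1 ⤳ z := fun z hz => hcU₀ z hz.1
    have hcV : ∀ z ∈ φ ⁻¹ᵁ (G₀ ⊓ G₁), z ∉ φ ⁻¹ᵁ O ↔ ∃ y ∈ s', y.1 ⤳ z := fun z hz =>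
      hcV₀ z (hHle' hz)
    have hd := dim_inf hO hGq
    have hdY := dim_inf hV hG0Y
    have hOG : BMCoh.ContainsFj X q (O ⊓ (G₀ ⊓ G₁)) := fun z hz => ⟨hO z hz, hGq z hz⟩
    have hVG : BMCoh.ContainsFj Y 0 (φ ⁻¹ᵁ O ⊓ φ ⁻¹ᵁ (G₀ ⊓ G₁)) := fun z hz => ⟨hV z hz, hG0Y z hz⟩
    have hdO := (dim_eq_of_containsFj X hOG).trans hOd.symm
    have hdV := (dim_eq_of_containsFj Y hVG).trans hVd.symm
    obtain ⟨k, hkc, hks, hk, hkd⟩ := exists_over h hcU h' hcV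
    have hcD : (h.decomp hcU hd).codim = ((q + 1 : ℕ) : ℤ) := h.decomp_codim hcU hd
    have e1 : WeilCoh.dim (zObj X s (G₀ ⊓ G₁)).scheme + (q + 1) = _ := h.dim_zObj
    have e2 : WeilCoh.dim (zObj Y s' (φ ⁻¹ᵁ (G₀ ⊓ G₁))).scheme + 1 = _ := h'.dim_zObj
    have e3 := dim_eq_of_containsFj Y hG0Y
    have hcD'' : (h'.decomp hcV hdY).codim = ((1 : ℕ) : ℤ) := h'.decomp_codim hcV hdY
    have hcD' : (pbDecomp (φ := φ) hcU hdY).codim = ((1 : ℕ) : ℤ) := by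
      show (WeilCoh.dim ((φ ⁻¹ᵁ (G₀ ⊓ G₁) : Y.scheme.Opens) : Scheme.{u}) : ℤ) -
        WeilCoh.dim (pbObj φ s (G₀ ⊓ G₁)).scheme = _
      omega
    have hz0 : BMCoh.relCodim (pbObj φ s (G₀ ⊓ G₁)).scheme (zObj X s (G₀ ⊓ G₁)).scheme = 0 := by
      unfold BMCoh.relCodim
      omega
    have hk0 : BMCoh.relCodim (zObj Y s' (φ ⁻¹ᵁ (G₀ ⊓ G₁))).scheme (pbObj φ s (G₀ ⊓ G₁)).scheme = 0 := by
      unfold BMCoh.relCodim
      omega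
    have hf0 : BMCoh.relCodim (zObj Y s' (φ ⁻¹ᵁ (G₀ ⊓ G₁))).scheme (zObj X s (G₀ ⊓ G₁)).scheme = 0 := by
      unfold BMCoh.relCodim
      omega
    have : IsProper k := inferInstance
    rw [← cls_pull T M i₁ n₁ (inf_le_left : O ⊓ (G₀ ⊓ G₁) ≤ O) hO hOG hdO,
      res_cpt_cls Q h hcU hd hOG h2 h2' (by omega) (by omega) hxs,
      res_push_preimage hdim h hcU hd hOd e3 hdY hdO hdV M i n i₁ n₁ i₂ n₂ i₂ n₂ hi1 hn1
        (by omega) (by omega) (by omega) (by omega) (by omega) (by omega) c,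
      hrhs s' fun y hy => hzero y (not_not.1 fun hn => hy ((hs' y).2 hn))]
    let c' := (T.pull (Y.resLE (inf_le_left : φ ⁻¹ᵁ O ⊓ φ ⁻¹ᵁ (G₀ ⊓ G₁) ≤ φ ⁻¹ᵁ O) hdV) M i n).hom c
    have hr : (T.res (pbDecomp (φ := φ) hcU hdY) M i n i₂ n₂ (by omega) (by omega)).hom c' =
        (T.push (X := zObj Y s' (φ ⁻¹ᵁ (G₀ ⊓ G₁))) (Y := pbObj φ s (G₀ ⊓ G₁)) k M i₂ n₂ i₂ n₂
          (by rw [hk0]; ring) (by rw [hk0]; ring)).hom
          ((T.res (h'.decomp hcV hdY) M i n i₂ n₂ (by omega) (by omega)).hom c') := by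
      have e := congr($(@hred (Y.res (φ ⁻¹ᵁ (G₀ ⊓ G₁))) (pbDecomp (φ := φ) hcU hdY)
        (h'.decomp hcV hdY) (𝟙 _) k hkc hks (Category.id_comp _) hk M i n i₂ n₂ (by omega)
        (by omega) (by omega) (by omega) (by erw [hk0]; ring) (by erw [hk0]; ring)).hom c')
      refine e.symm.trans ?_
      exact congrArg (fun z => (T.push (X := zObj Y s' (φ ⁻¹ᵁ (G₀ ⊓ G₁)))
        (Y := pbObj φ s (G₀ ⊓ G₁)) k M i₂ n₂ i₂ n₂ (by rw [hk0]; ring) (by rw [hk0]; ring)).hom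
          ((T.res (h'.decomp hcV hdY) M i n i₂ n₂ (by omega) (by omega)).hom z))
        (pull_id T M i n (X := Y.res _) c')
    rw [hr]
    have hcomp := congr($(T.push_comp (X := zObj Y s' (φ ⁻¹ᵁ (G₀ ⊓ G₁)))
      (Y := pbObj φ s (G₀ ⊓ G₁)) (Z := zObj X s (G₀ ⊓ G₁)) k
      (pullback.snd (φ ∣_ (G₀ ⊓ G₁)) (zι X s (G₀ ⊓ G₁))) M i₂ n₂ i₂ n₂ i₂ n₂
      (by rw [hk0]; ring) (by rw [hk0]; ring) (by rw [hz0]; ring) (by rw [hz0]; ring)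
      (by rw [hf0]; ring) (by rw [hf0]; ring)).hom
        ((T.res (h'.decomp hcV hdY) M i n i₂ n₂ (by omega) (by omega)).hom c'))
    refine (congrArg (germ T M i₂ n₂ h hxs) hcomp).trans ?_
    have hts : ∀ y ∈ s', t y ∈ s := fun y hy => (hs (t y)).2 fun hn =>
      (hs' y).1 hy (show φ y.1 ∈ O by rw [ht y]; exact hn)
    rw [germ_push_over t h h' _ (by rw [Category.assoc, ← pullback.condition, ← Category.assoc, hk])
      hts F M i₂ n₂ _ _ _ hxs]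
    refine Finset.sum_congr rfl fun y _ => ?_
    congr 3
    show _ = (Q'.tot M i n i₂ n₂ h4 h4').hom (cls T M i n hV c) y.1
    rw [BMCoh.PreTheory.ResData.tot_apply,
      ← cls_pull T M i n (inf_le_left : φ ⁻¹ᵁ O ⊓ φ ⁻¹ᵁ (G₀ ⊓ G₁) ≤ φ ⁻¹ᵁ O) hV hVG hdV]
    exact (res_cpt_cls Q' h' hcV hdY hVG h4 h4' _ _ y.2 c').symm

end Groth.Agent.BMLib
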