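import Groth.Prelude.Def_BMCoh3
import Mathlib.Topology.Sober

/-!
# Dimension bookkeeping for objects of a Borel–Moore theory
-/

set_option autoImplicit false
set_option backward.isDefEq.respectTransparency false

universe u

open CategoryTheory AlgebraicGeometry TopologicalSpace Order

namespace Groth.Agent.BMLib

attribute [local instance] specializationOrder

section Top

variable {T T' : Type u} [TopologicalSpace T] [TopologicalSpace T'] [QuasiSober T] [T0Space T]
  [T0Space T']

omit [QuasiSober T] in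
theorem lt_iff {a b : T} : a < b ↔ b ⤳ a ∧ a ≠ b :=
  lt_iff_le_and_ne

omit [QuasiSober T] in
theorem strictMono_of_isEmbedding {f : T → T'} (hf : Topology.IsEmbedding f) : StrictMono f :=
  fun a b h => by
    obtain ⟨h1, h2⟩ := (lt_iff_le_and_ne).1 h
    exact lt_iff_le_and_ne.2 ⟨(hf.isInducing.specializes_iff).2 h1, fun e => h2 (hf.injective e)⟩

theorem topologicalKrullDim_eq : topologicalKrullDim T = krullDim T :=
  krullDim_eq_of_orderIso irreducibleSetEquivPoints

theorem natDim_le_of_height {m : ℕ} (h : ∀ t : T, height t ≤ m) : WeilCoh.natDim T ≤ m := by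
  have h1 : krullDim T ≤ (m : WithBot ℕ∞) := by
    rw [krullDim_eq_iSup_height]
    exact iSup_le fun t => WithBot.coe_le_coe.2 (h t)
  unfold WeilCoh.natDim
  rw [topologicalKrullDim_eq]
  revert h1
  induction krullDim T using WithBot.recBotCoe with
  | bot => intro _; simp
  | coe d =>
    intro h1
    rw [WithBot.unbotD_coe]
    have h2 : d ≤ (m : ℕ∞) := WithBot.coe_le_coe.1 h1
    obtain ⟨k, rfl⟩ := ENat.ne_top_iff_exists.1 (ne_top_of_le_ne_top (ENat.natCast_ne_top m) h2)
    exact_mod_cast h2

theorem natDim_closure_singleton (x : T) :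
    WeilCoh.natDim ↥(closure ({x} : Set T)) = (height x).toNat := by
  let C := closure ({x} : Set T)
  have : QuasiSober C := (isClosed_closure.isClosedEmbedding_subtypeVal).quasiSober
  let e₀ : C ≃ Set.Iic x :=
    { toFun := fun c => ⟨c.1, specializes_iff_mem_closure.2 c.2⟩
      invFun := fun c => ⟨c.1, specializes_iff_mem_closure.1 c.2⟩
      left_inv := fun _ => rfl
      right_inv := fun _ => rfl }
  let e : @OrderIso C (Set.Iic x) (specializationOrder C).toLE _ :=
    @RelIso.mk C (Set.Iic x) (specializationOrder C).le (· ≤ ·) e₀ (fun {a b} => by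
      show (b : T) ⤳ (a : T) ↔ b ⤳ a
      exact Topology.IsInducing.subtypeVal.specializes_iff.symm.symm)
  show ((topologicalKrullDim C).unbotD 0).toNat = (height x).toNat
  rw [topologicalKrullDim_eq, @krullDim_eq_of_orderIso C (Set.Iic x) (specializationOrder C).toPreorder _ e,
    ← height_eq_krullDim_Iic, WithBot.unbotD_coe]

end Top

variable {V : ObjectProperty Scheme.{u}} [BMCoh.IsConstructible V]

theorem height_ne_top (X : BMCoh.Obj V) (x : X.scheme) : height x ≠ ⊤ := fun h => by
  have h1 : (height x : WithBot ℕ∞) ≤ krullDim X.scheme := height_le_krullDim x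
  rw [h, ← topologicalKrullDim_eq] at h1
  exact absurd (h1.trans_lt (BMCoh.IsConstructible.finiteDim X.mem)) (lt_irrefl _)

theorem pdim_eq (X : Scheme.{u}) (x : X) : WeilCoh.pdim X x = (height x).toNat :=
  natDim_closure_singleton x

theorem coe_pdim (X : BMCoh.Obj V) (x : X.scheme) : (WeilCoh.pdim X.scheme x : ℕ∞) = height x := by
  rw [pdim_eq]
  exact ENat.natCast_toNat (height_ne_top X x)

/-- A strict specialisation has a smaller closure. -/
theorem pdim_lt (X : BMCoh.Obj V) {x y : X.scheme} (h : x ⤳ y) (hne : x ≠ y) :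
    WeilCoh.pdim X.scheme y < WeilCoh.pdim X.scheme x := by
  have h1 : height y + 1 ≤ height x := height_add_one_le (lt_iff.2 ⟨h, hne.symm⟩)
  rw [← coe_pdim, ← coe_pdim] at h1
  exact_mod_cast h1

/-- An embedded scheme has dimension at most the largest dimension of a closure. -/
theorem dim_le_of_forall (X : BMCoh.Obj V) {Y : Scheme.{u}} (f : Y → X.scheme)
    (hf : Topology.IsEmbedding f) {m : ℕ} (h : ∀ y : Y, WeilCoh.pdim X.scheme (f y) ≤ m) :
    WeilCoh.dim Y ≤ m := by
  refine natDim_le_of_height fun y => ?_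
  refine (height_le_height_apply_of_strictMono f (strictMono_of_isEmbedding hf) y).trans ?_
  rw [← coe_pdim]
  exact_mod_cast h y

theorem pdim_le_dim (X : BMCoh.Obj V) (x : X.scheme) :
    WeilCoh.pdim X.scheme x ≤ WeilCoh.dim X.scheme := by
  have h1 : (height x : WithBot ℕ∞) ≤ topologicalKrullDim X.scheme := by
    rw [topologicalKrullDim_eq]
    exact height_le_krullDim x
  have h2 := BMCoh.IsConstructible.finiteDim X.mem
  rw [pdim_eq]
  show _ ≤ ((topologicalKrullDim X.scheme).unbotD 0).toNat
  revert h1 h2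
  induction topologicalKrullDim X.scheme using WithBot.recBotCoe with
  | bot => intro h1; exact absurd h1 (by simp)
  | coe d =>
    intro h1 h2
    rw [WithBot.unbotD_coe]
    exact ENat.toNat_le_toNat (WithBot.coe_le_coe.1 h1) (fun e => absurd h2 (by rw [e]; exact lt_irrefl _))

theorem dim_le_of_isEmbedding (X : BMCoh.Obj V) {Y : Scheme.{u}} (f : Y → X.scheme)
    (hf : Topology.IsEmbedding f) : WeilCoh.dim Y ≤ WeilCoh.dim X.scheme :=
  dim_le_of_forall X f hf fun _ => pdim_le_dim X _

theorem codim_lt (X : BMCoh.Obj V) {x y : X.scheme} (h : x ⤳ y) (hne : x ≠ y) :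
    WeilCoh.codim X.scheme x < WeilCoh.codim X.scheme y := by
  have h1 := pdim_lt X h hne
  have h2 := pdim_le_dim X x
  show WeilCoh.dim X.scheme - _ < WeilCoh.dim X.scheme - _
  omega

theorem codim_mono (X : BMCoh.Obj V) {x y : X.scheme} (h : x ⤳ y) :
    WeilCoh.codim X.scheme x ≤ WeilCoh.codim X.scheme y := by
  by_cases hne : x = y
  · rw [hne]
  · exact (codim_lt X h hne).le

theorem pdim_add_codim (X : BMCoh.Obj V) (x : X.scheme) :
    WeilCoh.pdim X.scheme x + WeilCoh.codim X.scheme x = WeilCoh.dim X.scheme :=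
  Nat.add_sub_cancel' (pdim_le_dim X x)

theorem range_ptSubι (X : BMCoh.Obj V) (x : X.scheme) :
    Set.range (X.ptSubι x) = closure ({x} : Set X.scheme) := by
  rw [Scheme.IdealSheafData.range_subschemeι]
  exact Scheme.IdealSheafData.coe_support_vanishingIdeal ⟨_, isClosed_closure⟩

theorem irreducibleSpace_ptSub (X : BMCoh.Obj V) (x : X.scheme) :
    IrreducibleSpace (X.ptSub x).scheme := by
  have he : Topology.IsEmbedding (X.ptSubι x) := (X.ptSubι x).isEmbedding
  let e : ↥(X.ptSub x).scheme ≃ₜ ↥(closure ({x} : Set X.scheme)) :=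
    he.toHomeomorph.trans (Homeomorph.setCongr (range_ptSubι X x))
  have : IrreducibleSpace ↥(closure ({x} : Set X.scheme)) :=
    Subtype.irreducibleSpace isIrreducible_singleton.closure
  exact (irreducibleSpace_def _).2 (by
    simpa using (IrreducibleSpace.isIrreducible_univ ↥(closure ({x} : Set X.scheme))).image e.symm
      e.symm.continuous.continuousOn)

theorem dim_ptSub (X : BMCoh.Obj V) (x : X.scheme) :
    WeilCoh.dim (X.ptSub x).scheme = WeilCoh.pdim X.scheme x := by
  have he : Topology.IsEmbedding (X.ptSubι x) := (X.ptSubι x).isEmbedding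
  let e : ↥(X.ptSub x).scheme ≃ₜ ↥(closure ({x} : Set X.scheme)) :=
    he.toHomeomorph.trans (Homeomorph.setCongr (range_ptSubι X x))
  show ((topologicalKrullDim _).unbotD 0).toNat = ((topologicalKrullDim _).unbotD 0).toNat
  rw [IsHomeomorph.topologicalKrullDim_eq _ e.isHomeomorph]

theorem dim_open_ptSub (X : BMCoh.Obj V) (x : X.scheme) (W : (X.ptSub x).scheme.Opens)
    (hW : (W : Set (X.ptSub x).scheme).Nonempty) :
    WeilCoh.dim (W : Scheme.{u}) = WeilCoh.pdim X.scheme x := by
  rw [BMCoh.IsConstructible.dim_open (X.ptSub x).mem (irreducibleSpace_ptSub X x) W hW, dim_ptSub]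

/-- Opens containing the points of codimension zero have full dimension. -/
theorem dim_eq_of_containsFj (X : BMCoh.Obj V) {j : ℕ} {U : X.scheme.Opens}
    (hU : BMCoh.ContainsFj X j U) : WeilCoh.dim (U : Scheme.{u}) = WeilCoh.dim X.scheme := by
  refine le_antisymm (dim_le_of_isEmbedding X U.ι U.ι.isEmbedding) ?_
  by_cases h0 : WeilCoh.dim X.scheme = 0
  · rw [h0]
    exact Nat.zero_le _
  obtain ⟨x, hx⟩ : ∃ x : X.scheme, WeilCoh.pdim X.scheme x = WeilCoh.dim X.scheme := by
    by_contra! hne
    have : WeilCoh.dim X.scheme ≤ WeilCoh.dim X.scheme - 1 :=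
      dim_le_of_forall X id Topology.IsEmbedding.id fun y => by
        have h1 := pdim_le_dim X y
        have h2 := hne y
        simp only [id]
        omega
    omega
  have hxU : x ∈ U := hU x (by
    show WeilCoh.dim X.scheme - WeilCoh.pdim X.scheme x ≤ j
    omega)
  let W := (X.ptSubι x) ⁻¹ᵁ U
  have hW : (W : Set (X.ptSub x).scheme).Nonempty := by
    obtain ⟨y, hy⟩ : x ∈ Set.range (X.ptSubι x) := range_ptSubι X x ▸ subset_closure rfl
    exact ⟨y, show X.ptSubι x y ∈ U by rw [hy]; exact hxU⟩
  rw [← hx, ← dim_open_ptSub X x W hW]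
  exact dim_le_of_isEmbedding (X.res U) ((X.ptSubι x) ∣_ U) ((X.ptSubι x) ∣_ U).isEmbedding

end Groth.Agent.BMLib
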