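import Groth.Agent.BMLib.Data

/-!
# The long exact sequence of the groups of F_jX
-/

set_option autoImplicit false
set_option backward.isDefEq.respectTransparency false
set_option linter.unusedSectionVars false

universe u

open CategoryTheory AlgebraicGeometry

namespace Groth.Agent.BMLib

variable {V : ObjectProperty Scheme.{u}} [BMCoh.IsConstructible V] {R : Type u} [CommRing R]
  {A : BMCoh.Coefs R} {T : BMCoh.PreTheory V R A} {X : BMCoh.Obj V} {j : ℕ} {M : A.Cat}
  {i n i' n' : ℤ}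

theorem exact_pushTot_fjRes (P : T.PushData X (j + 1))
    (hi : i' = i + 2 * ((j + 1 : ℕ) : ℤ)) (hn : n' = n + ((j + 1 : ℕ) : ℤ)) :
    Function.Exact (P.tot M i n i' n' hi hn).hom
      ((T.fjRes X (Nat.le_succ j) i' n').app M).hom := by
  classical
  intro a
  constructor
  · intro ha
    rcases exists_push_of_fjRes_eq_zero T M i n i' n' hi hn a ha with rfl | ⟨s, Y, hY, h, b, rfl⟩
    · exact ⟨0, map_zero _⟩
    · let ξ : T.ptSum X (j + 1) M i n := ∑ a : {x // x ∈ s},
        DirectSum.lof R (X.cdPt (j + 1)) (fun y : X.cdPt (j + 1) => T.ptGp X y.1 M i n) a.1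
          (germ T M i n h a.2 b)
      refine ⟨ξ, ?_⟩
      rw [cls_push_eq_sum P h hY hi hn, map_sum]
      exact Finset.sum_congr rfl fun a _ => P.tot_lof M i n i' n' hi hn a.1 _
  · rintro ⟨ξ, rfl⟩
    obtain ⟨t, ht⟩ : ∃ t : Finset (X.cdPt (j + 1)), ∀ x, x ∉ t → ξ x = 0 :=
      ⟨DFinsupp.support ξ, fun x hx => DFinsupp.notMem_support_iff.1 hx⟩
    rcases t.eq_empty_or_nonempty with rfl | hne
    · rw [show ξ = 0 from DFinsupp.ext fun x => ht x (Finset.notMem_empty x), map_zero, map_zero]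
    · obtain ⟨Y, -, hY, h, b, hb⟩ := exists_glue T M i n t hne (Y₀ := ⊤) (fun _ _ => trivial)
        (fun x => ξ x)
      have hc := h.relCodim_zObj
      rw [tot_eq_cls_push P h hY hi hn (by omega) (by omega) b ξ ht fun x hx => (hb x hx).symm,
        fjRes_cls]
      have hYj := BMCoh.containsFj_mono X (Nat.le_succ j) Y hY
      have hUY : BMCoh.ContainsFj X j ((sClosed X t).compl ⊓ Y) :=
        fun z hz => ⟨containsFj_compl_sClosed t z hz, hYj z hz⟩
      have hd := dim_inf (containsFj_compl_sClosed t) hYj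
      let D := h.decomp (compl_sClosed_iff Y) hd
      obtain ⟨m, rfl⟩ : ∃ m, i' = m + 1 := ⟨i' - 1, by omega⟩
      have hc' : BMCoh.relCodim D.Z.scheme (X.res Y).scheme = ((j + 1 : ℕ) : ℤ) := hc
      rw [← cls_pull T M (m + 1) n' (inf_le_right : (sClosed X t).compl ⊓ Y ≤ Y) hYj hUY hd]
      have e0 := (T.exact_push_pull D M m n' i n (by omega) (by omega)).apply_apply_eq_zero b
      exact (congrArg (cls T M (m + 1) n' hUY) e0).trans (map_zero _)

theorem exact_fjRes_resTot (Q : T.ResData X j)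
    (hi : i' = i + 1 - 2 * ((j : ℤ) + 1)) (hn : n' = n - ((j : ℤ) + 1)) :
    Function.Exact ((T.fjRes X (Nat.le_succ j) i n).app M).hom (Q.tot M i n i' n' hi hn).hom := by
  intro a
  constructor
  · intro ha
    obtain ⟨U, hU, y, rfl⟩ := exists_cls T M i n a
    rcases exists_good hU (Y₀ := ⊤) (fun _ _ => trivial) with hU1 | ⟨s, Y, -, hY, h, -, hcU⟩
    · exact ⟨cls T M i n hU1 y, fjRes_cls T M i n _ hU1 y⟩
    · have hYj := BMCoh.containsFj_mono X (Nat.le_succ j) Y hY
      have hd := dim_inf hU hYj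
      have hUY : BMCoh.ContainsFj X j (U ⊓ Y) := fun z hz => ⟨hU z hz, hYj z hz⟩
      have hdU := (dim_eq_of_containsFj X hUY).trans (dim_eq_of_containsFj X hU).symm
      have hc : (h.decomp hcU hd).codim = ((j + 1 : ℕ) : ℤ) := h.decomp_codim hcU hd
      have e := cls_pull T M i n (inf_le_left : U ⊓ Y ≤ U) hU hUY hdU y
      obtain ⟨c, hc2⟩ := mem_range_fjRes_of_germ T M i n i' n' hY h hU hcU hd hUY
        ((T.pull (X.resLE (inf_le_left : U ⊓ Y ≤ U) hdU) M i n).hom y) (by omega) (by omega)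
        fun x hx => by
          rw [← res_cpt_cls Q h hcU hd hUY hi hn (by omega) (by omega) hx, e]
          exact (Q.tot_apply M i n i' n' hi hn _ x).symm.trans (by rw [ha]; rfl)
      exact ⟨c, hc2.trans e⟩
  · rintro ⟨c, rfl⟩
    obtain ⟨Y, hY, y, rfl⟩ := exists_cls T M i n c
    refine DFinsupp.ext fun x => ?_
    rw [BMCoh.PreTheory.ResData.tot_apply, fjRes_cls,
      res_cpt_cls_eq_zero Q _ hi hn (hY x.1 x.2.le) y]
    rfl

theorem exact_resTot_pushTot (Q : T.ResData X j) (P : T.PushData X (j + 1))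
    (hi : i' = i + 1 - 2 * ((j : ℤ) + 1)) (hn : n' = n - ((j : ℤ) + 1))
    (hi2 : i + 1 = i' + 2 * ((j + 1 : ℕ) : ℤ)) (hn2 : n = n' + ((j + 1 : ℕ) : ℤ)) :
    Function.Exact (Q.tot M i n i' n' hi hn).hom (P.tot M i' n' (i + 1) n hi2 hn2).hom := by
  classical
  intro ξ
  constructor
  · intro hξ
    obtain ⟨t, ht⟩ : ∃ t : Finset (X.cdPt (j + 1)), ∀ x, x ∉ t → ξ x = 0 :=
      ⟨DFinsupp.support ξ, fun x hx => DFinsupp.notMem_support_iff.1 hx⟩
    rcases t.eq_empty_or_nonempty with rfl | hne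
    · exact ⟨0, by rw [map_zero]; exact (DFinsupp.ext fun x => ht x (Finset.notMem_empty x)).symm⟩
    · obtain ⟨Y, -, hY, h, b, hb⟩ := exists_glue T M i' n' t hne (Y₀ := ⊤) (fun _ _ => trivial)
        (fun x => ξ x)
      have hc := h.relCodim_zObj
      rw [tot_eq_cls_push P h hY hi2 hn2 (by omega) (by omega) b ξ ht
        fun x hx => (hb x hx).symm] at hξ
      obtain ⟨Y', hle, hY', hd, w1, w2, y, hy⟩ :=
        exists_res_of_push_eq_zero T M i n i' n' hY h b _ _ hξ
      have hY'j := BMCoh.containsFj_mono X (Nat.le_succ j) Y' hY'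
      have hUY : BMCoh.ContainsFj X j ((sClosed X t).compl ⊓ Y') :=
        fun z hz => ⟨containsFj_compl_sClosed t z hz, hY'j z hz⟩
      refine ⟨cls T M i n hUY y, DFinsupp.ext fun x => ?_⟩
      rw [BMCoh.PreTheory.ResData.tot_apply]
      by_cases hx : x ∈ t
      · rw [res_cpt_cls Q (h.shrink hle hY') (compl_sClosed_iff Y') hd hUY hi hn w1 w2 hx, hy,
          germ_gZ, hb x hx]
      · rw [res_cpt_cls_eq_zero Q hUY hi hn ⟨mem_compl_sClosed hx, hY' x.1 x.2.le⟩, ht x hx]
  · rintro ⟨a, rfl⟩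
    obtain ⟨U, hU, y, rfl⟩ := exists_cls T M i n a
    rcases exists_good hU (Y₀ := ⊤) (fun _ _ => trivial) with hU1 | ⟨s, Y, -, hY, h, hs, hcU⟩
    · rw [show (Q.tot M i n i' n' hi hn).hom (cls T M i n hU y) = 0 from DFinsupp.ext fun x =>
        (Q.tot_apply M i n i' n' hi hn _ x).trans
          (res_cpt_cls_eq_zero Q hU hi hn (hU1 x.1 x.2.le) y), map_zero]
    · have hYj := BMCoh.containsFj_mono X (Nat.le_succ j) Y hY
      have hd := dim_inf hU hYj
      have hUY : BMCoh.ContainsFj X j (U ⊓ Y) := fun z hz => ⟨hU z hz, hYj z hz⟩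
      have hdU := (dim_eq_of_containsFj X hUY).trans (dim_eq_of_containsFj X hU).symm
      have hc : (h.decomp hcU hd).codim = ((j + 1 : ℕ) : ℤ) := h.decomp_codim hcU hd
      have hc' := h.relCodim_zObj
      have hc'' : BMCoh.relCodim (h.decomp hcU hd).Z.scheme (X.res Y).scheme =
          ((j + 1 : ℕ) : ℤ) := hc'
      have e := cls_pull T M i n (inf_le_left : U ⊓ Y ≤ U) hU hUY hdU y
      rw [← e]
      rw [tot_eq_cls_push P h hY hi2 hn2 (by omega) (by omega)
        ((T.res (h.decomp hcU hd) M i n i' n' (by omega) (by omega)).hom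
          ((T.pull (X.resLE (inf_le_left : U ⊓ Y ≤ U) hdU) M i n).hom y))
        _ (fun x hx => by
          rw [BMCoh.PreTheory.ResData.tot_apply]
          exact res_cpt_cls_eq_zero Q hUY hi hn
            ⟨not_not.1 fun h' => hx ((hs x).2 h'), hY x.1 x.2.le⟩ _)
        (fun x hx => by
          rw [BMCoh.PreTheory.ResData.tot_apply]
          exact res_cpt_cls Q h hcU hd hUY hi hn _ _ hx _)]
      have e0 := (T.exact_res_push (h.decomp hcU hd) M i n i' n' (by omega) (by omega)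
        (by omega) (by omega)).apply_apply_eq_zero
        ((T.pull (X.resLE (inf_le_left : U ⊓ Y ≤ U) hdU) M i n).hom y)
      exact (congrArg (cls T M (i + 1) n hY) e0).trans (map_zero _)

theorem fjRes_injective_of_isZero
    (h0 : ∀ x : X.cdPt (j + 1), Limits.IsZero (T.ptGp X x.1 M i n))
    (hi : i' = i + 2 * ((j + 1 : ℕ) : ℤ)) (hn : n' = n + ((j + 1 : ℕ) : ℤ)) :
    Function.Injective ((T.fjRes X (Nat.le_succ j) i' n').app M).hom := by
  rw [injective_iff_map_eq_zero]
  intro a ha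
  rcases exists_push_of_fjRes_eq_zero T M i n i' n' hi hn a ha with rfl | ⟨s, Y, hY, h, b, rfl⟩
  · rfl
  · obtain ⟨Y', hle, hY', hz⟩ := exists_pull_gZ_eq_zero T M i n h hY b fun x _ =>
      (ModuleCat.subsingleton_of_isZero (h0 x)).elim _ _
    have hd := (dim_eq_of_containsFj X hY').trans (dim_eq_of_containsFj X hY).symm
    have hc := (h.shrink hle hY').relCodim_zObj
    rw [← cls_pull T M i' n' hle hY hY' hd,
      zι_pull_push T M i n i' n' hle h (h.shrink hle hY') _ _ (by omega) (by omega) hd, hz, map_zero]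
    exact map_zero _

theorem fjRes_surjective_of_isZero
    (h1 : ∀ x : X.cdPt (j + 1), Limits.IsZero (T.ptGp X x.1 M i' n'))
    (hi : i' = i + 1 - 2 * ((j : ℤ) + 1)) (hn : n' = n - ((j : ℤ) + 1)) :
    Function.Surjective ((T.fjRes X (Nat.le_succ j) i n).app M).hom := by
  intro a
  obtain ⟨U, hU, y, rfl⟩ := exists_cls T M i n a
  rcases exists_good hU (Y₀ := ⊤) (fun _ _ => trivial) with hU1 | ⟨s, Y, -, hY, h, -, hcU⟩
  · exact ⟨cls T M i n hU1 y, fjRes_cls T M i n _ hU1 y⟩
  · have hYj := BMCoh.containsFj_mono X (Nat.le_succ j) Y hY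
    have hd := dim_inf hU hYj
    have hUY : BMCoh.ContainsFj X j (U ⊓ Y) := fun z hz => ⟨hU z hz, hYj z hz⟩
    have hdU := (dim_eq_of_containsFj X hUY).trans (dim_eq_of_containsFj X hU).symm
    have hc : (h.decomp hcU hd).codim = ((j + 1 : ℕ) : ℤ) := h.decomp_codim hcU hd
    have e := cls_pull T M i n (inf_le_left : U ⊓ Y ≤ U) hU hUY hdU y
    obtain ⟨c, hc2⟩ := mem_range_fjRes_of_germ T M i n i' n' hY h hU hcU hd hUY
      ((T.pull (X.resLE (inf_le_left : U ⊓ Y ≤ U) hdU) M i n).hom y) (by omega) (by omega)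
      fun x _ => (ModuleCat.subsingleton_of_isZero (h1 x)).elim _ _
    exact ⟨c, hc2.trans e⟩

theorem fjRes_bijective_of_isZero
    (h0 : ∀ x : X.cdPt (j + 1),
      Limits.IsZero (T.ptGp X x.1 M (i - 2 * ((j : ℤ) + 1)) (n - ((j : ℤ) + 1))))
    (h1 : ∀ x : X.cdPt (j + 1),
      Limits.IsZero (T.ptGp X x.1 M (i + 1 - 2 * ((j : ℤ) + 1)) (n - ((j : ℤ) + 1)))) :
    Function.Bijective ((T.fjRes X (Nat.le_succ j) i n).app M).hom :=
  ⟨fjRes_injective_of_isZero h0 (by push_cast; ring) (by push_cast; ring),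
    fjRes_surjective_of_isZero h1 rfl rfl⟩

end Groth.Agent.BMLib
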