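import Groth.Agent.VarietyLib.NormStalk
import Mathlib

/-!
# A finite normalisation is an isomorphism over a nonempty open
-/

set_option autoImplicit false
universe u
open CategoryTheory CategoryTheory.Limits AlgebraicGeometry
open Groth.Agent.VarietyLib Groth.Agent.VarietyLib.NormStalk TopologicalSpace

namespace Groth.Agent.BMLib

open Groth.Agent.VarietyLib Groth.Agent.VarietyLib.NormStalk TopologicalSpace

variable {X : Scheme.{u}} [IsIntegral X]
  [QuasiCompact (X.fromSpecStalk (genericPoint X))] [QuasiSeparated (X.fromSpecStalk (genericPoint X))]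

theorem sec_range {U : X.Opens} (hU : IsAffineOpen U) [Nonempty U] :
    letI : Algebra Γ(X, U) X.functionField := (X.germToFunctionField U).hom.toAlgebra
    ∀ y, y ∈ integralClosure Γ(X, U) X.functionField ↔ y ∈ Set.range (sec X U) :=
  fun y => (mem_range_sec X hU y).symm

theorem exists_isIso_normalization [IsFinite (Curv2.normalizationι X)] :
    ∃ U : X.Opens, Dense ((U : Set X)) ∧ IsIso (Curv2.normalizationι X ∣_ U) := by
  classical
  obtain ⟨U, hU, hηU, -⟩ := exists_affine_le X (Opens.mem_top (genericPoint X))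
  haveI : Nonempty U := ⟨⟨_, hηU⟩⟩
  letI alg : Algebra Γ(X, U) X.functionField := (X.germToFunctionField U).hom.toAlgebra
  haveI : IsFractionRing Γ(X, U) X.functionField := functionField_isFractionRing_of_isAffineOpen X U hU
  obtain ⟨S, hS⟩ : (integralClosure Γ(X, U) X.functionField).toSubmodule.FG := by
    letI algC := ((Curv2.normalizationι X).app U).hom.toAlgebra
    haveI : Module.Finite Γ(X, U) Γ(Curv2.normalization X, Curv2.normalizationι X ⁻¹ᵁ U) :=
      (Curv2.normalizationι X).finite_app U hU
    let L : Γ(Curv2.normalization X, Curv2.normalizationι X ⁻¹ᵁ U) →ₗ[Γ(X, U)] X.functionField :=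
      { toFun := sec X U
        map_add' := map_add _
        map_smul' := fun a b => by
          show sec X U ((Curv2.normalizationι X).app U a * b) = X.germToFunctionField U a * sec X U b
          rw [map_mul, sec_app] }
    have hr : LinearMap.range L = (integralClosure Γ(X, U) X.functionField).toSubmodule :=
      Submodule.ext fun y => ⟨fun ⟨b, hb⟩ => (sec_range hU y).2 ⟨b, hb⟩, fun h => (sec_range hU y).1 h⟩
    rw [← hr]
    exact Module.Finite.iff_fg.1 (Module.Finite.range L)
  obtain ⟨⟨s, hs⟩, hint⟩ := IsLocalization.exist_integer_multiples_of_finset (nonZeroDivisors Γ(X, U)) S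
  have hmul : ∀ y ∈ (integralClosure Γ(X, U) X.functionField).toSubmodule,
      ∃ a, algebraMap Γ(X, U) X.functionField a = s • y := by
    intro y hy
    rw [← hS] at hy
    induction hy using Submodule.span_induction with
    | mem y hy => exact hint y hy
    | zero => exact ⟨0, by simp⟩
    | add y z _ _ hy hz => obtain ⟨a, ha⟩ := hy; obtain ⟨b, hb⟩ := hz; exact ⟨a + b, by rw [map_add, ha, hb, smul_add]⟩
    | smul c y _ hy => obtain ⟨a, ha⟩ := hy; exact ⟨c * a, by rw [map_mul, ha, smul_comm, Algebra.smul_def c]⟩
  let W := X.basicOpen s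
  have hW : IsAffineOpen W := hU.basicOpen s
  have hηW : genericPoint X ∈ W := (X.mem_basicOpen s _ hηU).2
    ((IsFractionRing.to_map_ne_zero_of_mem_nonZeroDivisors (K := X.functionField) hs).isUnit)
  haveI : Nonempty W := ⟨⟨_, hηW⟩⟩
  let r := X.presheaf.map (homOfLE (X.basicOpen_le s)).op
  have hres : ∀ a, X.germToFunctionField W (r a) = X.germToFunctionField U a := fun a =>
    X.presheaf.germ_res_apply (homOfLE (X.basicOpen_le s)) (genericPoint X) _ a
  haveI := hU.isLocalization_basicOpen s
  letI algW : Algebra Γ(X, W) X.functionField := (X.germToFunctionField W).hom.toAlgebra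
  haveI : IsScalarTower Γ(X, U) Γ(X, W) X.functionField :=
    IsScalarTower.of_algebraMap_eq fun a => (hres a).symm
  have hsurj : ∀ y, IsIntegral Γ(X, W) y → ∃ a, algebraMap Γ(X, W) X.functionField a = y := by
    intro y hy
    obtain ⟨⟨_, n, rfl⟩, hm⟩ := IsIntegral.exists_multiple_integral_of_isLocalization (Submonoid.powers s) y hy
    obtain ⟨a, ha⟩ := hmul _ hm
    have hu : IsUnit (r s) := RingedSpace.isUnit_res_basicOpen _ s
    obtain ⟨i, hi⟩ := isUnit_iff_exists_inv.1 hu
    refine ⟨r a * i ^ (n + 1), ?_⟩
    show X.germToFunctionField W _ = y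
    have h1 : X.germToFunctionField U a = X.germToFunctionField U s ^ (n + 1) * y := by
      refine ha.trans ?_
      rw [Algebra.smul_def, Submonoid.smul_def, Algebra.smul_def]
      show X.germToFunctionField U s * (X.germToFunctionField U (s ^ n) * y) = _
      rw [map_pow, pow_succ]
      ring
    rw [map_mul, map_pow, hres, h1, ← hres s, mul_right_comm, ← mul_pow, ← map_mul]
    erw [hi]
    rw [map_one, one_pow, one_mul]
  have hbij : Function.Bijective ((Curv2.normalizationι X).app W).hom := by
    refine ⟨fun a b h => X.germToFunctionField_injective W ?_, fun b => ?_⟩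
    · rw [← sec_app X W a, ← sec_app X W b]; exact congrArg _ h
    · obtain ⟨a, ha⟩ := hsurj _ ((sec_range hW _).2 ⟨b, rfl⟩)
      exact ⟨a, sec_injective X W ((sec_app X W a).trans ha)⟩
  haveI : IsIso ((Curv2.normalizationι X).app W) := (ConcreteCategory.isIso_iff_bijective _).2 hbij
  refine ⟨W, W.isOpen.dense ⟨_, hηW⟩, ?_⟩
  haveI : IsAffine W.toScheme := hW
  haveI : IsAffine (Curv2.normalizationι X ⁻¹ᵁ W).toScheme := hW.preimage _
  have hiso : IsIso (Curv2.normalizationι X ∣_ W).appTop := by
    rw [morphismRestrict_appTop]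
    have h1 : IsIso ((Curv2.normalizationι X).app (W.ι ''ᵁ ⊤)) := by rw [W.ι_image_top]; infer_instance
    exact @IsIso.comp_isIso _ _ _ _ _ _ _ h1 (Functor.map_isIso _ _)
  exact ((MorphismProperty.arrow_mk_iso_iff (MorphismProperty.isomorphisms Scheme.{u})
    (arrowIsoSpecΓOfIsAffine (Curv2.normalizationι X ∣_ W))).mpr
      (inferInstanceAs (IsIso (Spec.map (Curv2.normalizationι X ∣_ W).appTop))) :)

end Groth.Agent.BMLib
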