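import Groth.Agent.BMLib.Clopen
import Groth.Agent.Props12.KerReduced

/-!
# The reduced union of closures of points of one codimension, cut down to an open
-/

set_option autoImplicit false
set_option backward.isDefEq.respectTransparency false
set_option linter.unusedSectionVars false

universe u

open CategoryTheory AlgebraicGeometry TopologicalSpace

namespace Groth.Agent.BMLib

variable {V : ObjectProperty Scheme.{u}} [BMCoh.IsConstructible V] (X : BMCoh.Obj V) {k : ℕ}
  (s : Finset (X.cdPt k))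

/-- The union of the closures of a finite family of points. -/
def sClosed : Closeds X.scheme :=
  ⟨⋃ x ∈ s, closure ({x.1} : Set X.scheme), isClosed_biUnion_finset fun _ _ => isClosed_closure⟩

theorem mem_sClosed {y : X.scheme} : y ∈ (sClosed X s : Set X.scheme) ↔ ∃ x ∈ s, x.1 ⤳ y := by
  simp [sClosed, specializes_iff_mem_closure]

/-- That closed set with its reduced structure, as an object. -/
noncomputable abbrev sObj : BMCoh.Obj V :=
  ⟨(Scheme.IdealSheafData.vanishingIdeal (sClosed X s)).subscheme,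
    BMCoh.IsConstructible.of_isClosedImmersion
      (Scheme.IdealSheafData.vanishingIdeal (sClosed X s)).subschemeι (h := inferInstance) X.mem⟩

/-- Its closed immersion. -/
noncomputable abbrev sι : (sObj X s).scheme ⟶ X.scheme :=
  (Scheme.IdealSheafData.vanishingIdeal (sClosed X s)).subschemeι

instance : IsReduced (sObj X s).scheme := Props12.isReduced_subscheme_vanishingIdeal _

theorem range_sι : Set.range (sι X s) = (sClosed X s : Set X.scheme) := by
  rw [Scheme.IdealSheafData.range_subschemeι]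
  exact Scheme.IdealSheafData.coe_support_vanishingIdeal _

theorem ptSub_range_le {x : X.cdPt k} (hx : x ∈ s) :
    (sι X s).ker ≤ (X.ptSubι x.1).ker := by
  rw [Scheme.IdealSheafData.ker_subschemeι, Scheme.IdealSheafData.ker_subschemeι]
  refine Scheme.IdealSheafData.vanishingIdeal_antimono fun y hy => ?_
  exact (mem_sClosed X s).2 ⟨x, hx, specializes_iff_mem_closure.2 hy⟩

/-- The closure of a member inside the union. -/
noncomputable def sLift {x : X.cdPt k} (hx : x ∈ s) : (X.ptSub x.1).scheme ⟶ (sObj X s).scheme :=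
  IsClosedImmersion.lift (sι X s) (X.ptSubι x.1) (ptSub_range_le X s hx)

theorem sLift_ι {x : X.cdPt k} (hx : x ∈ s) : sLift X s hx ≫ sι X s = X.ptSubι x.1 :=
  IsClosedImmersion.lift_fac _ _ _

/-- The part of the union lying in an open. -/
noncomputable abbrev zObj (Y : X.scheme.Opens) : BMCoh.Obj V := (sObj X s).res (sι X s ⁻¹ᵁ Y)

/-- Its closed immersion into the open. -/
noncomputable abbrev zι (Y : X.scheme.Opens) : (zObj X s Y).scheme ⟶ (X.res Y).scheme :=
  sι X s ∣_ Y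

/-- The part of the closure of a point lying in an open. -/
noncomputable abbrev ptOpen (x : X.scheme) (Y : X.scheme.Opens) : (X.ptSub x).scheme.Opens :=
  X.ptSubι x ⁻¹ᵁ Y

theorem ptOpen_nonempty {x : X.scheme} {Y : X.scheme.Opens} (hx : x ∈ Y) :
    (ptOpen X x Y : Set (X.ptSub x).scheme).Nonempty := by
  obtain ⟨y, hy⟩ : x ∈ Set.range (X.ptSubι x) := range_ptSubι X x ▸ subset_closure rfl
  exact ⟨y, show X.ptSubι x y ∈ Y by rw [hy]; exact hx⟩

/-- The member of the index family of a point cut out by an open. -/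
noncomputable def ptW {x : X.scheme} {Y : X.scheme.Opens} (hx : x ∈ Y) : BMCoh.ptIdx X x :=
  ⟨ptOpen X x Y, ptOpen_nonempty X hx,
    BMCoh.IsConstructible.dim_open (X.ptSub x).mem (irreducibleSpace_ptSub X x) _
      (ptOpen_nonempty X hx)⟩

theorem dim_ptOpen {x : X.cdPt k} {Y : X.scheme.Opens} (hx : x.1 ∈ Y) :
    WeilCoh.dim ((X.ptSub x.1).res (ptOpen X x.1 Y)).scheme + k = WeilCoh.dim X.scheme := by
  have h1 := dim_open_ptSub X x.1 _ (ptOpen_nonempty X hx)
  have h2 := pdim_add_codim X x.1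
  have h3 := x.2
  show WeilCoh.dim (ptOpen X x.1 Y : Scheme.{u}) + k = _
  omega

/-- A nonempty family of points of one codimension, with disjoint closures inside an open of full
dimension containing them. -/
structure Pieces (Y : X.scheme.Opens) : Prop where
  nonempty : s.Nonempty
  dim_eq : WeilCoh.dim (Y : Scheme.{u}) = WeilCoh.dim X.scheme
  mem : ∀ x ∈ s, x.1 ∈ Y
  disj : ∀ x ∈ s, ∀ x' ∈ s, ∀ y ∈ Y, x.1 ⤳ y → x'.1 ⤳ y → x = x'

variable {X s} {Y Y' : X.scheme.Opens} (h : Pieces X s Y)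

theorem Pieces.shrink (h : Pieces X s Y) (hle : Y' ≤ Y) (hY' : BMCoh.ContainsFj X k Y') :
    Pieces X s Y' where
  nonempty := h.nonempty
  dim_eq := dim_eq_of_containsFj X hY'
  mem x _ := hY' x.1 x.2.le
  disj x hx x' hx' y hy := h.disj x hx x' hx' y (hle hy)

theorem specializes_of_range {x : X.cdPt k} {Y : X.scheme.Opens}
    (w : (ptOpen X x.1 Y : Scheme.{u})) :
    x.1 ⤳ X.ptSubι x.1 w.1 := by
  rw [specializes_iff_mem_closure, ← range_ptSubι X x.1]
  exact ⟨_, rfl⟩

include h in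
theorem Pieces.dim_zObj : WeilCoh.dim (zObj X s Y).scheme + k = WeilCoh.dim X.scheme := by
  obtain ⟨x, hx⟩ := h.nonempty
  have h1 := pdim_add_codim X x.1
  have h2 := x.2
  have e : WeilCoh.dim (zObj X s Y).scheme = WeilCoh.pdim X.scheme x.1 := by
    refine le_antisymm (dim_le_of_forall X ((sι X s ⁻¹ᵁ Y).ι ≫ sι X s)
      ((sι X s ⁻¹ᵁ Y).ι ≫ sι X s).isEmbedding fun z => ?_) ?_
    · have hz : ((sι X s ⁻¹ᵁ Y).ι ≫ sι X s) z ∈ (sClosed X s : Set X.scheme) :=
        range_sι X s ▸ ⟨_, rfl⟩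
      obtain ⟨a, -, ha⟩ := (mem_sClosed X s).1 hz
      have h3 := codim_mono X ha
      have h4 := pdim_add_codim X (((sι X s ⁻¹ᵁ Y).ι ≫ sι X s) z)
      have h5 := a.2
      omega
    · rw [← dim_open_ptSub X x.1 _ (ptOpen_nonempty X (h.mem x hx))]
      refine dim_le_of_isEmbedding (zObj X s Y)
        (IsOpenImmersion.lift (sι X s ⁻¹ᵁ Y).ι ((ptOpen X x.1 Y).ι ≫ sLift X s hx) ?_) ?_
      · rw [Scheme.Opens.range_ι]
        rintro _ ⟨w, rfl⟩
        show (sLift X s hx ≫ sι X s) w.1 ∈ Y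
        rw [sLift_ι]
        exact w.2
      · have : IsPreimmersion (sLift X s hx) := by
          have : IsPreimmersion (sLift X s hx ≫ sι X s) := by rw [sLift_ι]; infer_instance
          exact IsPreimmersion.of_comp _ (sι X s)
        have : IsPreimmersion (IsOpenImmersion.lift (sι X s ⁻¹ᵁ Y).ι
            ((ptOpen X x.1 Y).ι ≫ sLift X s hx) (by
              rw [Scheme.Opens.range_ι]
              rintro _ ⟨w, rfl⟩
              show (sLift X s hx ≫ sι X s) w.1 ∈ Y
              rw [sLift_ι]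
              exact w.2) ≫ (sι X s ⁻¹ᵁ Y).ι) := by
          rw [IsOpenImmersion.lift_fac]; infer_instance
        exact (IsPreimmersion.of_comp _ (sι X s ⁻¹ᵁ Y).ι).base_embedding
  omega

include h in
theorem Pieces.relCodim_zObj :
    BMCoh.relCodim (zObj X s Y).scheme (X.res Y).scheme = (k : ℤ) := by
  have h1 := h.dim_zObj
  have h2 := h.dim_eq
  show (WeilCoh.dim (Y : Scheme.{u}) : ℤ) - _ = _
  omega

include h in
theorem Pieces.relCodim_ptOpen {x : X.cdPt k} (hx : x ∈ s) :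
    BMCoh.relCodim ((X.ptSub x.1).res (ptOpen X x.1 Y)).scheme (X.res Y).scheme = (k : ℤ) := by
  have h1 := dim_ptOpen X (h.mem x hx)
  have h2 := h.dim_eq
  show (WeilCoh.dim (Y : Scheme.{u}) : ℤ) - _ = _
  omega

/-- The piece of a member, as a morphism of schemes. -/
noncomputable def gHom {x : X.cdPt k} (hx : x ∈ s) (Y : X.scheme.Opens) :
    ((X.ptSub x.1).res (ptOpen X x.1 Y)).scheme ⟶ (zObj X s Y).scheme :=
  IsOpenImmersion.lift (sι X s ⁻¹ᵁ Y).ι ((ptOpen X x.1 Y).ι ≫ sLift X s hx) (by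
    rw [Scheme.Opens.range_ι]
    rintro _ ⟨w, rfl⟩
    show (sLift X s hx ≫ sι X s) w.1 ∈ Y
    rw [sLift_ι]
    exact w.2)

theorem gHom_zι {x : X.cdPt k} (hx : x ∈ s) (Y : X.scheme.Opens) :
    gHom hx Y ≫ zι X s Y = X.ptSubι x.1 ∣_ Y := by
  rw [← cancel_mono Y.ι, Category.assoc]
  show gHom hx Y ≫ (sι X s ∣_ Y) ≫ Y.ι = _
  rw [morphismRestrict_ι, morphismRestrict_ι, gHom, IsOpenImmersion.lift_fac_assoc, Category.assoc,
    sLift_ι]

theorem gHom_zι_ι {x : X.cdPt k} (hx : x ∈ s) (Y : X.scheme.Opens) :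
    gHom hx Y ≫ zι X s Y ≫ Y.ι = (ptOpen X x.1 Y).ι ≫ X.ptSubι x.1 := by
  rw [← Category.assoc, gHom_zι, morphismRestrict_ι]

instance isClosedImmersion_gHom {x : X.cdPt k} (hx : x ∈ s) (Y : X.scheme.Opens) :
    IsClosedImmersion (gHom hx Y) := by
  have : IsClosedImmersion (gHom hx Y ≫ zι X s Y) := by rw [gHom_zι]; infer_instance
  exact IsClosedImmersion.of_comp (gHom hx Y) (zι X s Y)

theorem gHom_apply {x : X.cdPt k} (hx : x ∈ s) (Y : X.scheme.Opens)
    (w : (ptOpen X x.1 Y : Scheme.{u})) : sι X s (gHom hx Y w).1 = X.ptSubι x.1 w.1 := by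
  have e := congr($(gHom_zι_ι hx Y) w)
  have e2 : zι X s Y ≫ Y.ι = (sι X s ⁻¹ᵁ Y).ι ≫ sι X s := morphismRestrict_ι _ _
  rw [e2] at e
  exact e

theorem mem_range_gHom {x : X.cdPt k} (hx : x ∈ s) (Y : X.scheme.Opens)
    (z : (zObj X s Y).scheme) (hz : x.1 ⤳ sι X s z.1) : z ∈ Set.range (gHom hx Y) := by
  obtain ⟨w, hw⟩ : sι X s z.1 ∈ Set.range (X.ptSubι x.1) :=
    range_ptSubι X x.1 ▸ specializes_iff_mem_closure.1 hz
  have hwY : w ∈ ptOpen X x.1 Y := show X.ptSubι x.1 w ∈ Y by rw [hw]; exact z.2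
  refine ⟨⟨w, hwY⟩, Subtype.ext ((sι X s).isEmbedding.injective ?_)⟩
  rw [gHom_apply]
  exact hw

include h in
theorem Pieces.disjoint {x x' : X.cdPt k} (hx : x ∈ s) (hx' : x' ∈ s) (hne : x ≠ x') :
    Disjoint (Set.range (gHom hx Y)) (Set.range (gHom hx' Y)) := by
  rw [Set.disjoint_left]
  rintro z ⟨w, rfl⟩ ⟨w', hw'⟩
  have e : X.ptSubι x'.1 w'.1 = X.ptSubι x.1 w.1 := by
    rw [← gHom_apply hx', ← gHom_apply hx, hw']
  refine hne (h.disj x hx x' hx' _ w.2 (specializes_of_range w) ?_)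
  rw [← e]
  exact specializes_of_range w'

theorem exists_mem_range_gHom (Y : X.scheme.Opens) (z : (zObj X s Y).scheme) :
    ∃ (x : X.cdPt k) (hx : x ∈ s), z ∈ Set.range (gHom hx Y) := by
  obtain ⟨x, hx, hz⟩ := (mem_sClosed X s).1
    (range_sι X s ▸ ⟨_, rfl⟩ : sι X s z.1 ∈ (sClosed X s : Set X.scheme))
  exact ⟨x, hx, mem_range_gHom hx Y z hz⟩

include h in
theorem Pieces.isOpenImmersion {x : X.cdPt k} (hx : x ∈ s) : IsOpenImmersion (gHom hx Y) := by
  classical
  let g := gHom hx Y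
  have hopen : IsOpen (Set.range g) := by
    have e : Set.range g = (⋃ a ∈ s.attach.filter (fun a : {a // a ∈ s} => a.1 ≠ x),
        Set.range (gHom a.2 Y))ᶜ := by
      ext z
      simp only [Set.mem_compl_iff, Set.mem_iUnion, Finset.mem_filter, Finset.mem_attach, true_and,
        not_exists]
      constructor
      · intro hz a ha hz'
        exact Set.disjoint_left.1 (h.disjoint a.2 hx ha) hz' hz
      · intro hz
        obtain ⟨a, ha, hza⟩ := exists_mem_range_gHom Y z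
        obtain rfl : a = x := by_contra fun hne => hz ⟨a, ha⟩ hne hza
        exact hza
    rw [e]
    exact (isClosed_biUnion_finset fun a _ =>
      (gHom a.2 Y).isClosedEmbedding.isClosed_range).isOpen_compl
  let O : (zObj X s Y).scheme.Opens := ⟨Set.range g, hopen⟩
  have hle : Set.range g ⊆ Set.range O.ι := by
    rw [Scheme.Opens.range_ι]
    exact subset_rfl
  let g' := IsOpenImmersion.lift O.ι g hle
  have hfac : g' ≫ O.ι = g := IsOpenImmersion.lift_fac _ _ _
  have : IsClosedImmersion (g' ≫ O.ι) := by rw [hfac]; exact isClosedImmersion_gHom hx Y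
  have : IsClosedImmersion g' := IsClosedImmersion.of_comp g' O.ι
  have : Surjective g' := ⟨fun z => by
    obtain ⟨w, hw⟩ := z.2
    refine ⟨w, O.ι.isEmbedding.injective ?_⟩
    show (g' ≫ O.ι) w = _
    rw [hfac, hw]
    rfl⟩
  have : IsIso g' := isIso_of_isClosedImmersion_of_surjective g'
  show IsOpenImmersion g
  rw [← hfac]
  infer_instance

/-- The piece of a member as a morphism of objects. -/
noncomputable def Pieces.g {x : X.cdPt k} (hx : x ∈ s) :
    (X.ptSub x.1).res (ptOpen X x.1 Y) ⟶ zObj X s Y :=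
  ⟨gHom hx Y, h.isOpenImmersion hx, by
    have h1 := h.dim_zObj
    have h2 := dim_ptOpen X (h.mem x hx)
    omega⟩

theorem Pieces.g_hom {x : X.cdPt k} (hx : x ∈ s) : (h.g hx).hom = gHom hx Y := rfl

instance {x : X.cdPt k} (hx : x ∈ s) : IsClosedImmersion (h.g hx).hom :=
  isClosedImmersion_gHom hx Y

/-- The decomposition of an open whose closed part is the union of the closures. -/
noncomputable def Pieces.decomp {U : X.scheme.Opens} (_h : Pieces X s Y)
    (hU : ∀ y ∈ Y, y ∉ U ↔ ∃ x ∈ s, x.1 ⤳ y)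
    (hd : WeilCoh.dim ((U ⊓ Y : X.scheme.Opens) : Scheme.{u}) = WeilCoh.dim (Y : Scheme.{u})) :
    BMCoh.Decomp (X.res Y) where
  Z := zObj X s Y
  U := X.res (U ⊓ Y)
  i := zι X s Y
  closedImm := inferInstance
  j := X.resLE inf_le_right hd
  range_eq := by
    have e1 : ∀ w, Y.ι ((X.resLE (U := U ⊓ Y) inf_le_right hd).hom w) = (U ⊓ Y).ι w := fun w =>
      congr($(X.scheme.homOfLE_ι (inf_le_right : U ⊓ Y ≤ Y)) w)
    have e2 : ∀ z, Y.ι (zι X s Y z) = sι X s z.1 := fun z =>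
      congr($(morphismRestrict_ι (sι X s) Y) z)
    ext y
    constructor
    · rintro ⟨w, rfl⟩ ⟨z, hz⟩
      have h3 : sι X s z.1 = (U ⊓ Y).ι w := by rw [← e2, ← e1, hz]
      refine ((hU _ w.2.2).2 ((mem_sClosed X s).1 ?_)) w.2.1
      exact range_sι X s ▸ ⟨_, h3⟩
    · intro hy
      have hyU : y.1 ∈ U := by
        by_contra hn
        have h3 : y.1 ∈ (sClosed X s : Set X.scheme) := (mem_sClosed X s).2 ((hU _ y.2).1 hn)
        rw [← range_sι X s] at h3
        obtain ⟨z, hz⟩ := h3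
        refine hy ⟨⟨z, show sι X s z ∈ Y by rw [hz]; exact y.2⟩, Y.ι.isEmbedding.injective ?_⟩
        rw [e2]
        exact hz
      exact ⟨⟨y.1, hyU, y.2⟩, Y.ι.isEmbedding.injective (e1 _)⟩

theorem Pieces.decomp_codim {U : X.scheme.Opens} (hU) (hd) :
    (h.decomp (U := U) hU hd).codim = (k : ℤ) :=
  h.relCodim_zObj

/-- The inclusion of the union cut down to a smaller open. -/
noncomputable def gZ (hle : Y' ≤ Y) (h : Pieces X s Y) (h' : Pieces X s Y') :
    zObj X s Y' ⟶ zObj X s Y :=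
  (sObj X s).resLE (fun _ hz => hle hz) (by
    have h1 : WeilCoh.dim ((sι X s ⁻¹ᵁ Y' : (sObj X s).scheme.Opens) : Scheme.{u}) + k = _ :=
      h'.dim_zObj
    have h2 : WeilCoh.dim ((sι X s ⁻¹ᵁ Y : (sObj X s).scheme.Opens) : Scheme.{u}) + k = _ :=
      h.dim_zObj
    omega)

theorem gZ_hom_ι (hle : Y' ≤ Y) (h : Pieces X s Y) (h' : Pieces X s Y') :
    (gZ hle h h').hom ≫ (sι X s ⁻¹ᵁ Y).ι = (sι X s ⁻¹ᵁ Y').ι :=
  Scheme.homOfLE_ι _ (fun _ hz => hle hz : sι X s ⁻¹ᵁ Y' ≤ sι X s ⁻¹ᵁ Y)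

theorem isPullback_gZ (hle : Y' ≤ Y) (h : Pieces X s Y) (h' : Pieces X s Y') :
    IsPullback (gZ hle h h').hom (zι X s Y') (zι X s Y) (X.scheme.homOfLE hle) := by
  refine IsPullback.of_right ?_ ?_ (isPullback_morphismRestrict (sι X s) Y).flip
  · rw [gZ_hom_ι, Scheme.homOfLE_ι]
    exact (isPullback_morphismRestrict (sι X s) Y').flip
  · rw [← cancel_mono Y.ι, Category.assoc, Category.assoc, Scheme.homOfLE_ι]
    erw [morphismRestrict_ι, morphismRestrict_ι]
    rw [← Category.assoc]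
    congr 1
    exact Scheme.homOfLE_ι _ (fun _ hz => hle hz : sι X s ⁻¹ᵁ Y' ≤ sι X s ⁻¹ᵁ Y)

/-- The inclusion of the part of the closure of a point in a smaller open. -/
noncomputable def gW (hle : Y' ≤ Y) {x : X.scheme} (hx' : x ∈ Y') :
    (X.ptSub x).res (ptOpen X x Y') ⟶ (X.ptSub x).res (ptOpen X x Y) :=
  idxHom (X := X.ptSub x) (fun U => (U : Set (X.ptSub x).scheme).Nonempty)
    (U' := ptW X hx') (U := ptW X (hle hx')) fun _ hz => hle hz

theorem g_gZ (hle : Y' ≤ Y) (h : Pieces X s Y) (h' : Pieces X s Y') {x : X.cdPt k} (hx : x ∈ s) :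
    h'.g hx ≫ gZ hle h h' = gW hle (h'.mem x hx) ≫ h.g hx := by
  refine BMCoh.Hom.ext ?_
  rw [← cancel_mono (sι X s ⁻¹ᵁ Y).ι, BMCoh.comp_hom, BMCoh.comp_hom, Category.assoc,
    Category.assoc, gZ_hom_ι]
  show gHom hx Y' ≫ _ = (gW hle (h'.mem x hx)).hom ≫ gHom hx Y ≫ _
  rw [gHom, gHom, IsOpenImmersion.lift_fac, IsOpenImmersion.lift_fac, ← Category.assoc]
  congr 1
  exact (Scheme.homOfLE_ι _ (fun _ hz => hle hz : ptOpen X x.1 Y' ≤ ptOpen X x.1 Y)).symm

variable (X)

/-- Points of codimension k of a closed set of codimension at least k: finitely many, and they cover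
the set near the points of codimension at most k. -/
theorem exists_cover {C : Set X.scheme} (hC : IsClosed C)
    (hk : ∀ y ∈ C, k ≤ WeilCoh.codim X.scheme y) :
    ∃ (t : Finset (X.cdPt k)) (Y : X.scheme.Opens), BMCoh.ContainsFj X k Y ∧
      (∀ x : X.cdPt k, x ∈ t ↔ x.1 ∈ C) ∧ ∀ y ∈ Y, y ∈ C → ∃ x ∈ t, x.1 ⤳ y := by
  classical
  have := BMCoh.IsConstructible.isNoetherian X.mem
  obtain ⟨S, hSf, hSc, hSi, hCS⟩ :=
    NoetherianSpace.exists_finite_set_isClosed_irreducible (α := X.scheme) hC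
  have hgen : ∀ T : S, ∃ g : X.scheme, IsGenericPoint g T.1 := fun T =>
    QuasiSober.sober (hSi _ T.2) (hSc _ T.2)
  choose g hg using hgen
  have : Finite S := hSf.to_subtype
  have hgC : ∀ T, g T ∈ C := fun T => hCS ▸ Set.mem_sUnion.2 ⟨T.1, T.2, (hg T).mem⟩
  have hcov : ∀ y ∈ C, ∃ T, g T ⤳ y := fun y hy => by
    obtain ⟨T, hT, hyT⟩ := Set.mem_sUnion.1 (hCS ▸ hy)
    exact ⟨⟨T, hT⟩, (hg ⟨T, hT⟩).specializes hyT⟩
  have hmax : ∀ x : X.cdPt k, x.1 ∈ C → ∃ T, g T = x.1 := fun x hx => by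
    obtain ⟨T, hT⟩ := hcov x.1 hx
    refine ⟨T, by_contra fun hne => ?_⟩
    have h1 := codim_lt X hT hne
    have h2 := hk _ (hgC T)
    have h3 := x.2
    omega
  have hfin : {x : X.cdPt k | x.1 ∈ C}.Finite :=
    ((Set.finite_range g).preimage Subtype.val_injective.injOn).subset fun x hx => hmax x hx
  let B : Set X.scheme := ⋃ T ∈ {T : S | k < WeilCoh.codim X.scheme (g T)}, closure {g T}
  have hB : IsClosed B := (Set.toFinite _).isClosed_biUnion fun _ _ => isClosed_closure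
  refine ⟨hfin.toFinset, ⟨Bᶜ, hB.isOpen_compl⟩, fun y hy hyB => ?_, fun x => by simp,
    fun y hy hyC => ?_⟩
  · obtain ⟨T, hT, hyT⟩ := Set.mem_iUnion₂.1 hyB
    have h1 := codim_mono X (specializes_iff_mem_closure.2 hyT)
    have h2 : k < WeilCoh.codim X.scheme (g T) := hT
    omega
  · obtain ⟨T, hT⟩ := hcov y hyC
    have h1 : ¬ k < WeilCoh.codim X.scheme (g T) := fun h1 =>
      hy (Set.mem_iUnion₂.2 ⟨T, h1, specializes_iff_mem_closure.1 hT⟩)
    have h2 := hk _ (hgC T)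
    exact ⟨⟨g T, by omega⟩, hfin.mem_toFinset.2 (hgC T), hT⟩

/-- A finite nonempty family of points of codimension k has disjoint closures near the points of
codimension at most k. -/
theorem exists_pieces (t : Finset (X.cdPt k)) (ht : t.Nonempty) {Y₀ : X.scheme.Opens}
    (hY₀ : BMCoh.ContainsFj X k Y₀) :
    ∃ Y : X.scheme.Opens, Y ≤ Y₀ ∧ BMCoh.ContainsFj X k Y ∧ Pieces X t Y := by
  classical
  let B : Set X.scheme := ⋃ p ∈ (t ×ˢ t).filter (fun p => p.1 ≠ p.2),
    closure {p.1.1} ∩ closure {p.2.1}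
  have hB : IsClosed B := isClosed_biUnion_finset fun _ _ => isClosed_closure.inter isClosed_closure
  have hF : BMCoh.ContainsFj X k (Y₀ ⊓ ⟨Bᶜ, hB.isOpen_compl⟩) := fun y hy => ⟨hY₀ y hy, fun hyB => by
    obtain ⟨p, hp, h1, h2⟩ := Set.mem_iUnion₂.1 hyB
    obtain ⟨-, hne⟩ := Finset.mem_filter.1 hp
    have e1 : p.1.1 = y := by_contra fun hn => by
      have := codim_lt X (specializes_iff_mem_closure.2 h1) hn
      have := p.1.2
      omega
    have e2 : p.2.1 = y := by_contra fun hn => by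
      have := codim_lt X (specializes_iff_mem_closure.2 h2) hn
      have := p.2.2
      omega
    exact hne (Subtype.ext (e1.trans e2.symm))⟩
  refine ⟨_, inf_le_left, hF, ⟨ht, dim_eq_of_containsFj X hF, fun x _ => hF x.1 x.2.le,
    fun x hx x' hx' y hy h1 h2 => by_contra fun hne => hy.2 (Set.mem_iUnion₂.2 ⟨(x, x'),
      Finset.mem_filter.2 ⟨Finset.mem_product.2 ⟨hx, hx'⟩, hne⟩,
      specializes_iff_mem_closure.1 h1, specializes_iff_mem_closure.1 h2⟩)⟩⟩

/-- The open of a member of the index family of a point, seen in the ambient object. -/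
theorem exists_open_le_ptIdx (x : X.scheme) (W : BMCoh.ptIdx X x) :
    ∃ Y : X.scheme.Opens, BMCoh.ContainsFj X (WeilCoh.codim X.scheme x) Y ∧
      ptOpen X x Y ≤ W.1 := by
  let B : Set X.scheme := X.ptSubι x '' (W.1 : Set (X.ptSub x).scheme)ᶜ
  have hB : IsClosed B :=
    (X.ptSubι x).isClosedEmbedding.isClosedMap _ W.1.isOpen.isClosed_compl
  refine ⟨⟨Bᶜ, hB.isOpen_compl⟩, fun y hy hyB => ?_, fun w hw => by_contra fun hn => hw ⟨w, hn, rfl⟩⟩
  obtain ⟨w, hw, rfl⟩ := hyB
  have hsp : x ⤳ X.ptSubι x w :=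
    specializes_iff_mem_closure.2 (range_ptSubι X x ▸ ⟨w, rfl⟩)
  have he : x = X.ptSubι x w := by_contra fun hn => by
    have := codim_lt X hsp hn
    omega
  obtain ⟨w', hw'⟩ := W.2.1
  have h1 : X.ptSubι x w ⤳ X.ptSubι x w' := by
    rw [← he]
    exact specializes_iff_mem_closure.2 (range_ptSubι X x ▸ ⟨w', rfl⟩)
  exact hw (((X.ptSubι x).isEmbedding.isInducing.specializes_iff.1 h1).mem_open W.1.isOpen hw')

end Groth.Agent.BMLib
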