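import Groth.Agent.BMLib.ClosedPurity
import Groth.Prelude.Def_BMCoh4

/-!
# Push-forward between groups of points along a proper morphism
-/

set_option autoImplicit false
set_option backward.isDefEq.respectTransparency false
set_option linter.unusedSectionVars false

universe u

open CategoryTheory AlgebraicGeometry TopologicalSpace

namespace Groth.Agent.BMLib

variable {V : ObjectProperty Scheme.{u}} [BMCoh.IsConstructible V] {R : Type u} [CommRing R]
  {A : BMCoh.Coefs R} {T : BMCoh.PreTheory V R A} {Y X : BMCoh.Obj V} (φ : Y.scheme ⟶ X.scheme)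

/-- A closed continuous map does not raise dimensions of closures. -/
theorem pdim_map_le [IsProper φ] (y : Y.scheme) :
    WeilCoh.pdim X.scheme (φ y) ≤ WeilCoh.pdim Y.scheme y := by
  let _ : PartialOrder X.scheme := specializationOrder X.scheme
  suffices key : ∀ (m : ℕ) (y : Y.scheme), m ≤ WeilCoh.pdim X.scheme (φ y) →
      m ≤ WeilCoh.pdim Y.scheme y from key _ y le_rfl
  intro m
  induction m with
  | zero => exact fun _ _ => Nat.zero_le _
  | succ m ih =>
    intro y hy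
    have hlt : (m : ℕ∞) < Order.height (φ y) := by
      rw [← coe_pdim]
      exact_mod_cast hy
    obtain ⟨q, hq, hqm⟩ :=
      (Order.coe_lt_height_iff (lt_top_iff_ne_top.2 (height_ne_top X (φ y)))).1 hlt
    rw [← coe_pdim] at hqm
    have hqm' : WeilCoh.pdim X.scheme q = m := by exact_mod_cast hqm
    obtain ⟨hsp, hne⟩ := lt_iff.1 hq
    obtain ⟨z, hz, rfl⟩ : q ∈ φ '' closure {y} := by
      have h1 : closure (φ '' {y}) ⊆ φ '' closure {y} :=
        (φ.isClosedMap _ isClosed_closure).closure_subset_iff.2 (Set.image_mono subset_closure)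
      rw [Set.image_singleton] at h1
      exact h1 (specializes_iff_mem_closure.1 hsp)
    have hzy : y ≠ z := fun e => hne (by rw [e])
    have h2 := ih z hqm'.ge
    have h3 := pdim_lt Y (specializes_iff_mem_closure.2 hz) hzy
    omega

variable {φ}

theorem ptSub_lift_le (y : Y.scheme) {x : X.scheme} (h : φ y = x) :
    (X.ptSubι x).ker ≤ (Y.ptSubι y ≫ φ).ker := by
  have : IsReduced (Y.ptSub y).scheme := Props12.isReduced_subscheme_vanishingIdeal _
  rw [Props12.ker_eq_vanishingIdeal (Y.ptSubι y ≫ φ), Scheme.IdealSheafData.ker_subschemeι]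
  refine Scheme.IdealSheafData.vanishingIdeal_antimono (closure_minimal ?_ isClosed_closure)
  rintro _ ⟨w, rfl⟩
  refine specializes_iff_mem_closure.1 ?_
  rw [← h]
  exact (specializes_iff_mem_closure.2 (range_ptSubι Y y ▸ ⟨w, rfl⟩)).map φ.continuous

/-- The morphism of reduced closures. -/
noncomputable def ptMap (φ : Y.scheme ⟶ X.scheme) (y : Y.scheme) {x : X.scheme} (h : φ y = x) :
    (Y.ptSub y).scheme ⟶ (X.ptSub x).scheme :=
  IsClosedImmersion.lift (X.ptSubι x) (Y.ptSubι y ≫ φ) (ptSub_lift_le y h)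

theorem ptMap_ι (y : Y.scheme) {x : X.scheme} (h : φ y = x) :
    ptMap φ y h ≫ X.ptSubι x = Y.ptSubι y ≫ φ :=
  IsClosedImmersion.lift_fac _ _ _

theorem isProper_ptMap [IsProper φ] (y : Y.scheme) {x : X.scheme} (h : φ y = x) :
    IsProper (ptMap φ y h) := by
  have : IsProper (ptMap φ y h ≫ X.ptSubι x) := by rw [ptMap_ι]; infer_instance
  exact IsProper.of_comp (ptMap φ y h) (X.ptSubι x)

variable [IsProper φ]

/-- Small opens of the closure of the image point receive the closure of the source point properly. -/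
theorem exists_test {y : Y.scheme} {x : X.scheme} (h : φ y = x)
    (hd : WeilCoh.pdim X.scheme x = WeilCoh.pdim Y.scheme y) (W : BMCoh.ptIdx Y y) :
    ∃ (W' : BMCoh.ptIdx X x) (W₀ : BMCoh.ptIdx Y y) (_ : W₀ ≤ W),
      W₀.1 = ptMap φ y h ⁻¹ᵁ W'.1 ∧
      BMCoh.relCodim ((Y.ptSub y).res W₀.1).scheme ((X.ptSub x).res W'.1).scheme = 0 := by
  let B : Set X.scheme := (Y.ptSubι y ≫ φ) '' (W.1 : Set (Y.ptSub y).scheme)ᶜ
  have hB : IsClosed B := (Y.ptSubι y ≫ φ).isClosedMap _ W.1.isOpen.isClosed_compl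
  have hxB : x ∈ (⟨Bᶜ, hB.isOpen_compl⟩ : X.scheme.Opens) := by
    rintro ⟨w, hw, hwx⟩
    have hsp : y ⤳ Y.ptSubι y w := specializes_iff_mem_closure.2 (range_ptSubι Y y ▸ ⟨w, rfl⟩)
    have hne : y ≠ Y.ptSubι y w := by
      intro e
      obtain ⟨v, hv⟩ := W.2.1
      have h1 : Y.ptSubι y w ⤳ Y.ptSubι y v := by
        rw [← e]
        exact specializes_iff_mem_closure.2 (range_ptSubι Y y ▸ ⟨v, rfl⟩)
      exact hw (((Y.ptSubι y).isEmbedding.isInducing.specializes_iff.1 h1).mem_open W.1.isOpen hv)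
    have h2 := pdim_lt Y hsp hne
    have h3 := pdim_map_le φ (Y.ptSubι y w)
    rw [show φ (Y.ptSubι y w) = x from hwx] at h3
    omega
  let W' := ptW X hxB
  have hne : (ptMap φ y h ⁻¹ᵁ W'.1 : Set (Y.ptSub y).scheme).Nonempty := by
    obtain ⟨w, hw⟩ : y ∈ Set.range (Y.ptSubι y) := range_ptSubι Y y ▸ subset_closure rfl
    refine ⟨w, show X.ptSubι x (ptMap φ y h w) ∈ (⟨Bᶜ, hB.isOpen_compl⟩ : X.scheme.Opens) from ?_⟩
    rw [show X.ptSubι x (ptMap φ y h w) = φ (Y.ptSubι y w) from congr($(ptMap_ι y h) w), hw, h]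
    exact hxB
  have hdim := BMCoh.IsConstructible.dim_open (Y.ptSub y).mem (irreducibleSpace_ptSub Y y) _ hne
  refine ⟨W', ⟨_, hne, hdim⟩, fun w hw => ?_, rfl, ?_⟩
  · by_contra hn
    exact hw ⟨w, hn, (congr($(ptMap_ι y h) w)).symm⟩
  · have h1 := dim_open_ptSub X x _ W'.2.1
    have h2 := dim_open_ptSub Y y _ hne
    show (WeilCoh.dim (W'.1 : Scheme.{u}) : ℤ) - _ = 0
    show (WeilCoh.dim (W'.1 : Scheme.{u}) : ℤ) -
      WeilCoh.dim ((ptMap φ y h ⁻¹ᵁ W'.1 : (Y.ptSub y).scheme.Opens) : Scheme.{u}) = 0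
    omega

/-- The value of a push-forward datum on a class on a preimage. -/
theorem ptPush_cpt {y : Y.scheme} {x : X.scheme} (L : T.PtPush φ y x) (h : φ y = x) (M : A.Cat)
    (i n : ℤ) (W₀ : BMCoh.ptIdx Y y) (W' : BMCoh.ptIdx X x) (e : W₀.1 = ptMap φ y h ⁻¹ᵁ W'.1)
    (hc : BMCoh.relCodim ((Y.ptSub y).res W₀.1).scheme ((X.ptSub x).res W'.1).scheme = 0) :
    ∃ (f : ((Y.ptSub y).res W₀.1).scheme ⟶ ((X.ptSub x).res W'.1).scheme) (_ : IsProper f),
      f ≫ W'.1.ι = W₀.1.ι ≫ ptMap φ y h ∧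
      ∀ a, (L.cpt M i n).hom (((T.ptι Y y i n W₀).app M).hom a) =
        ((T.ptι X x i n W').app M).hom
          ((T.push f M i n i n (by rw [hc]; ring) (by rw [hc]; ring)).hom a) := by
  obtain ⟨W₀, hW₀⟩ := W₀
  obtain rfl : W₀ = ptMap φ y h ⁻¹ᵁ W'.1 := e
  have := isProper_ptMap (φ := φ) y h
  refine ⟨ptMap φ y h ∣_ W'.1, inferInstance, morphismRestrict_ι _ _, fun a => ?_⟩
  exact congr($(L.cpt_spec M i n ⟨_, hW₀⟩ W' (ptMap φ y h ∣_ W'.1)
    (by rw [morphismRestrict_ι_assoc, ptMap_ι]) (by rw [hc]; ring) (by rw [hc]; ring)).hom a)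

theorem subsingleton_ptPush (y : Y.scheme) (x : X.scheme) : Subsingleton (T.PtPush φ y x) := by
  refine ⟨fun L L' => ?_⟩
  have h : φ y = x := L.maps_pt
  have hd : WeilCoh.pdim X.scheme x = WeilCoh.pdim Y.scheme y := by
    have e : (WeilCoh.dim (X.ptSub x).scheme : ℤ) - WeilCoh.dim (Y.ptSub y).scheme = 0 := L.codim_eq
    rw [dim_ptSub, dim_ptSub] at e
    omega
  have key : ∀ (M : A.Cat) (i n : ℤ) (a : T.ptGp Y y M i n),
      (L.cpt M i n).hom a = (L'.cpt M i n).hom a := by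
    intro M i n a
    obtain ⟨W, b, rfl⟩ := exists_rep T _ M i n (X := Y.ptSub y) a
    obtain ⟨W', W₀, hle, e, hc⟩ := exists_test (φ := φ) h hd W
    rw [← ocolimι_pull T _ M i n (U' := W₀) (U := W) hle b]
    obtain ⟨f, hf, hfe, hv⟩ := ptPush_cpt L h M i n W₀ W' e hc
    obtain ⟨f', hf', hfe', hv'⟩ := ptPush_cpt L' h M i n W₀ W' e hc
    obtain rfl : f = f' := by rw [← cancel_mono W'.1.ι]; exact hfe.trans hfe'.symm
    rw [hv, hv']
  obtain ⟨_, _, c, _⟩ := L
  obtain ⟨_, _, c', _⟩ := L'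
  obtain rfl : c = c' := by
    funext M i n
    exact ModuleCat.hom_ext (LinearMap.ext fun a => key M i n a)
  rfl

end Groth.Agent.BMLib
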