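import Groth.Agent.BMLib.Exact

/-!
# H(X) towards the groups of F_jX, and open immersions
-/

set_option autoImplicit false
set_option backward.isDefEq.respectTransparency false
set_option linter.unusedSectionVars false

universe u

open CategoryTheory AlgebraicGeometry

namespace Groth.Agent.BMLib

variable {V : ObjectProperty Scheme.{u}} [BMCoh.IsConstructible V] {R : Type u} [CommRing R]
  {A : BMCoh.Coefs R} (T : BMCoh.PreTheory V R A) {X : BMCoh.Obj V} {k j : ℕ} (M : A.Cat) (i n : ℤ)

/-- A morphism of objects whose underlying morphism is an isomorphism restricts bijectively. -/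
theorem pull_bijective_of_isIso {Y : BMCoh.Obj V} (g : Y ⟶ X) [IsIso g.hom] :
    Function.Bijective (T.pull g M i n).hom := by
  let l : X ⟶ Y := ⟨inv g.hom, inferInstance, g.dim_eq.symm⟩
  refine Function.bijective_iff_has_inverse.2 ⟨(T.pull l M i n).hom, fun a => ?_, fun a => ?_⟩
  · rw [pull_pull, show l ≫ g = 𝟙 X from BMCoh.Hom.ext (IsIso.inv_hom_id g.hom), pull_id]
  · rw [pull_pull, show g ≫ l = 𝟙 Y from BMCoh.Hom.ext (IsIso.hom_inv_id g.hom), pull_id]

theorem toFj_eq_cls {Y : X.scheme.Opens} (hY : BMCoh.ContainsFj X k Y) (a : T.gp X M i n) :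
    ((T.toFj X k i n).app M).hom a =
      cls T M i n hY ((T.pull (X.resι Y (dim_eq_of_containsFj X hY)) M i n).hom a) := by
  have e : X.resι Y (dim_eq_of_containsFj X hY) =
      X.resLE (le_top : Y ≤ ⊤) ((dim_eq_of_containsFj X hY).trans (BMCoh.dim_top _).symm) ≫ X.resTop :=
    BMCoh.Hom.ext (Scheme.homOfLE_ι X.scheme (le_top : Y ≤ ⊤)).symm
  rw [e, ← pull_pull, cls_pull T M i n (le_top : Y ≤ (⊤ : X.scheme.Opens))
    (fun _ _ => trivial : BMCoh.ContainsFj X k ⊤) hY]
  rfl

theorem fjRes_toFj (h : j ≤ k) (a : T.gp X M i n) :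
    ((T.fjRes X h i n).app M).hom (((T.toFj X k i n).app M).hom a) =
      ((T.toFj X j i n).app M).hom a := by
  rw [toFj_eq_cls T M i n (Y := ⊤) (fun _ _ => trivial),
    toFj_eq_cls T M i n (Y := ⊤) (fun _ _ => trivial), fjRes_cls]

theorem toFj_bijective_of_dim_le (hk : WeilCoh.dim X.scheme ≤ k) :
    Function.Bijective ((T.toFj X k i n).app M).hom := by
  have htop : ∀ Y : X.scheme.Opens, BMCoh.ContainsFj X k Y → Y = ⊤ := fun Y hY =>
    top_le_iff.1 fun y _ => hY y ((Nat.sub_le _ _).trans hk)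
  have hiso : IsIso (X.resι ⊤ (BMCoh.dim_top X.scheme)).hom := by
    show IsIso (⊤ : X.scheme.Opens).ι
    rw [← Scheme.topIso_hom]; infer_instance
  refine ⟨(injective_iff_map_eq_zero _).2 fun a ha => ?_, fun c => ?_⟩
  · rw [toFj_eq_cls T M i n (Y := ⊤) (fun _ _ => trivial)] at ha
    obtain ⟨Y', hle, hY', hd, hz⟩ := cls_eq_zero T M i n _ _ ha
    obtain rfl := htop Y' hY'
    refine (pull_bijective_of_isIso T M i n (X.resι ⊤ (BMCoh.dim_top X.scheme))).1 ?_
    rw [map_zero]
    refine Eq.trans ?_ hz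
    rw [show X.resLE hle hd = 𝟙 _ from BMCoh.Hom.ext (Scheme.homOfLE_rfl _ _), pull_id]
  · obtain ⟨Y, hY, y, rfl⟩ := exists_cls T M i n c
    obtain rfl := htop Y hY
    obtain ⟨a, ha⟩ := (pull_bijective_of_isIso T M i n (X.resι ⊤ (BMCoh.dim_top X.scheme))).2 y
    exact ⟨a, (toFj_eq_cls T M i n hY a).trans (congrArg (cls T M i n hY) ha)⟩

/-- Below twice the codimension nothing is lost (for a theory: groups of points vanish in negative
degrees). -/
theorem toFj_bijective (T : BMCoh.TheoryOn V R A) (hj : i ≤ 2 * (j : ℤ)) :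
    Function.Bijective ((T.toFj X j i n).app M).hom := by
  suffices key : ∀ d k : ℕ, i ≤ 2 * (k : ℤ) → WeilCoh.dim X.scheme ≤ k + d →
      Function.Bijective ((T.toFj X k i n).app M).hom from
    key (WeilCoh.dim X.scheme) j hj (Nat.le_add_left _ _)
  intro d
  induction d with
  | zero => exact fun k _ hd => toFj_bijective_of_dim_le T.toPreTheory M i n hd
  | succ d ih =>
    intro k hk hd
    have h1 := fjRes_bijective_of_isZero (T := T.toPreTheory) (X := X) (j := k) (M := M) (i := i)
      (n := n) (fun x => T.pt_vanish X x.1 M _ _ (by omega))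
      (fun x => T.pt_vanish X x.1 M _ _ (by omega))
    have h2 := h1.comp (ih (k + 1) (by push_cast; omega) (by omega))
    exact (funext fun a => fjRes_toFj T.toPreTheory M i n (Nat.le_succ k) a :
      ((T.fjRes X (Nat.le_succ k) i n).app M).hom ∘ ((T.toFj X (k + 1) i n).app M).hom =
        ((T.toFj X k i n).app M).hom) ▸ h2

/-- Dimensions of closures do not change on passing to an open. -/
theorem pdim_open {U : BMCoh.Obj V} (f : U.scheme ⟶ X.scheme) [IsOpenImmersion f] (w : U.scheme) :
    WeilCoh.pdim U.scheme w = WeilCoh.pdim X.scheme (f w) := by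
  refine le_antisymm ?_ ?_
  · rw [← Nat.cast_le (α := ℕ∞), coe_pdim, coe_pdim]
    letI := specializationOrder U.scheme
    letI := specializationOrder X.scheme
    exact Order.height_le_height_apply_of_strictMono f (strictMono_of_isEmbedding f.isEmbedding) w
  · have hw : f w ∈ f.opensRange := ⟨w, rfl⟩
    rw [← dim_open_ptSub X (f w) _ (ptOpen_nonempty X hw)]
    let W := ptOpen X (f w) f.opensRange
    let g : (W : Scheme.{u}) ⟶ U.scheme := IsOpenImmersion.lift f (W.ι ≫ X.ptSubι (f w)) (by
      rintro _ ⟨v, rfl⟩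
      exact v.2)
    have : IsPreimmersion (g ≫ f) := by rw [IsOpenImmersion.lift_fac]; infer_instance
    have : IsPreimmersion g := IsPreimmersion.of_comp g f
    refine dim_le_of_forall U g g.isEmbedding fun v => ?_
    have h1 : f w ⤳ f (g v) := by
      rw [show f (g v) = X.ptSubι (f w) v.1 from congr($(IsOpenImmersion.lift_fac f
        (W.ι ≫ X.ptSubι (f w)) _) v)]
      exact specializes_of_range (X := X) (x := ⟨f w, rfl⟩) v
    have h2 : w ⤳ g v := f.isEmbedding.isInducing.specializes_iff.1 h1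
    rcases eq_or_ne w (g v) with he | hne
    · rw [← he]
    · exact (pdim_lt U h2 hne).le

theorem codim_open {U : BMCoh.Obj V} (f : U ⟶ X) (w : U.scheme) :
    WeilCoh.codim U.scheme w = WeilCoh.codim X.scheme (f.hom w) := by
  show WeilCoh.dim U.scheme - WeilCoh.pdim U.scheme w =
    WeilCoh.dim X.scheme - WeilCoh.pdim X.scheme (f.hom w)
  rw [f.dim_eq, pdim_open f.hom]

end Groth.Agent.BMLib
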